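import Cfsg.Agent.LocalEven61.Binary.Outside

/-!
In an irreducible binary linear group two noncommuting axes have no common fixed vector.
-/

set_option autoImplicit false
set_option linter.unusedSectionVars false
set_option linter.style.haveILetI false

namespace Cfsg.Agent.LocalEven61.Binary

open Module

variable {p : ℕ} {V : Type*} [AddCommGroup V] [Module (ZMod p) V]
variable {G : Subgroup (V ≃ₗ[ZMod p] V)} {g h k s t m n a b i s' t' : V ≃ₗ[ZMod p] V} {u v : V}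

/-- The elements of `G` stabilising a subspace. -/
def stabG (G : Subgroup (V ≃ₗ[ZMod p] V)) (Y : Submodule (ZMod p) V) :
    Subgroup (V ≃ₗ[ZMod p] V) where
  carrier := {g | g ∈ G ∧ ∀ v, g v ∈ Y ↔ v ∈ Y}
  one_mem' := ⟨one_mem _, fun _ => Iff.rfl⟩
  mul_mem' := fun ha hb => ⟨mul_mem ha.1 hb.1, fun v => (ha.2 _).trans (hb.2 v)⟩
  inv_mem' := fun {x} hx => ⟨inv_mem hx.1, fun v => by
    rw [← hx.2 (x⁻¹ v)]; simp⟩

/-- Restriction to a stabilised subspace. -/
def resHom (G : Subgroup (V ≃ₗ[ZMod p] V)) (Y : Submodule (ZMod p) V) :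
    stabG G Y →* (Y ≃ₗ[ZMod p] Y) where
  toFun g :=
    { toFun := fun v => ⟨g.1 v.1, (g.2.2 v.1).2 v.2⟩
      map_add' := fun v w => Subtype.ext (map_add g.1 v.1 w.1)
      map_smul' := fun c v => Subtype.ext (map_smul g.1 c v.1)
      invFun := fun v => ⟨g.1⁻¹ v.1, (g⁻¹.2.2 v.1).2 v.2⟩
      left_inv := fun v => Subtype.ext (inv_app_app g.1 v.1)
      right_inv := fun v => Subtype.ext (app_inv_app g.1 v.1) }
  map_one' := LinearEquiv.ext fun _ => Subtype.ext rfl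
  map_mul' _ _ := LinearEquiv.ext fun _ => Subtype.ext rfl

/-- The group induced on a stabilised subspace. -/
def resG (G : Subgroup (V ≃ₗ[ZMod p] V)) (Y : Submodule (ZMod p) V) :
    Subgroup (Y ≃ₗ[ZMod p] Y) :=
  (resHom G Y).range

variable [hp : Fact p.Prime] [Finite V]

section
variable (hb : Bin G) (hq : Pair G s t)
include hb hq

theorem Pair.conj_pair (hg : g ∈ G) : Pair G (g * s * g⁻¹) (g * t * g⁻¹) := by
  refine ⟨hq.left.conj hg, hq.right.conj hg, fun h => hq.nc ?_⟩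
  have h' : g * (s * t) * g⁻¹ = g * (t * s) * g⁻¹ := by
    calc g * (s * t) * g⁻¹ = g * s * g⁻¹ * (g * t * g⁻¹) := by group
      _ = g * t * g⁻¹ * (g * s * g⁻¹) := h
      _ = g * (t * s) * g⁻¹ := by group
  exact mul_left_cancel (mul_right_cancel h')

theorem Pair.mem_plane_conj :
    v ∈ rg (g * s * g⁻¹ * (g * t * g⁻¹)) ↔ g⁻¹ v ∈ rg (s * t) := by
  rw [show g * s * g⁻¹ * (g * t * g⁻¹) = g * (s * t) * g⁻¹ by group]
  exact mem_rg_conj g (s * t)

theorem Pair.eq_of_common (hq' : Pair G s' t') (hm : InC G s t m) (hm' : InC G s' t' m) :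
    rg (s' * t') = rg (s * t) ∧ fx s' ⊓ fx t' = fx s ⊓ fx t := by
  obtain ⟨n, hn', hmn⟩ := hq'.exists_neighbour hb hm'
  have hn : InC G s t n := by_contra fun h => hq.no_outside hb hmn.right h hm hmn.symm
  exact ⟨(hq'.plane_of hb hm' hn' hmn).symm.trans (hq.plane_of hb hm hn hmn),
    (hq'.X_eq_of hb hm' hn' hmn).symm.trans (hq.X_eq_of hb hm hn hmn)⟩

/-- Two planes are equal or one lies in the common fixed space of the other. -/
theorem Pair.apart (hq' : Pair G s' t') (hne : rg (s' * t') ≠ rg (s * t)) :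
    rg (s' * t') ≤ fx s ⊓ fx t := by
  have key : ∀ m, InC G s t m → ∀ m', InC G s' t' m' → rg m' ≤ fx m := by
    intro m hm m' hm'
    have hno : ¬ InC G s t m' := fun h => hne (hq.eq_of_common hb hq' h hm').1
    have hc : m' * m = m * m' :=
      by_contra fun h => hq.no_outside hb hm'.1 hno hm ⟨hm'.1, hm.1, h⟩
    exact hm'.1.rg_le_fx hb hm.1 hc fun h => hno ⟨hm'.1, hm.2.trans h.ge⟩
  rw [← hq'.plane_eq hb]
  exact sup_le (le_inf (key s hq.inC_left s' hq'.inC_left) (key t hq.inC_right s' hq'.inC_left))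
    (le_inf (key s hq.inC_left t' hq'.inC_right) (key t hq.inC_right t' hq'.inC_right))

theorem Pair.conj_mem_inC (h2 : p ≠ 2) (hg : g ∈ stabG G (rg (s * t))) (hm : InC G s t m) :
    InC G s t (g * m * g⁻¹) := by
  have ha := hm.1.conj hg.1
  obtain ⟨w, hw, hw0⟩ := Submodule.exists_mem_ne_zero_of_ne_bot ha.rg_ne_bot
  have hwP : w ∈ rg (s * t) := by
    have h := hq.rg_le_plane hb hm ((mem_rg_conj g m).1 hw)
    rwa [← hg.2, app_inv_app] at h
  obtain ⟨k, hk, hwk⟩ := hq.root_cover hb hwP hw0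
  have he : g * m * g⁻¹ = k := by
    by_contra hne
    have h : w ∈ rg (g * m * g⁻¹) ⊓ rg k := ⟨hw, hwk⟩
    rw [ha.rg_inf_rg hb h2 hk.1 hne] at h
    exact hw0 h
  rwa [he]

theorem Pair.mem_stabG (h2 : p ≠ 2) (hg : g ∈ G) (hv : v ∈ rg (s * t)) (hv0 : v ≠ 0)
    (hgv : g v ∈ rg (s * t)) : g ∈ stabG G (rg (s * t)) := by
  obtain ⟨j, hj, hvj⟩ := hq.root_cover hb hv hv0
  have hgv0 : g v ≠ 0 := fun h => hv0 ((LinearEquiv.map_eq_zero_iff g).1 h)
  obtain ⟨k, hk, hgvk⟩ := hq.root_cover hb hgv hgv0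
  have hj' := hj.1.conj hg
  have he : g * j * g⁻¹ = k := by
    by_contra hne
    have h : g v ∈ rg (g * j * g⁻¹) ⊓ rg k :=
      ⟨(mem_rg_conj g j).2 (by rwa [inv_app_app]), hgvk⟩
    rw [hj'.rg_inf_rg hb h2 hk.1 hne] at h
    exact hgv0 h
  have hkC : InC G (g * s * g⁻¹) (g * t * g⁻¹) k := by
    refine he ▸ ⟨hj', fun w hw => (mem_fx_conj g j).2 (hj.2 ⟨?_, ?_⟩)⟩
    exacts [(mem_fx_conj g s).1 hw.1, (mem_fx_conj g t).1 hw.2]
  have hpl := (hq.eq_of_common hb (hq.conj_pair hb hg) hk hkC).1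
  refine ⟨hg, fun w => ?_⟩
  conv_lhs => rw [← hpl, hq.mem_plane_conj hb, inv_app_app]

theorem Pair.resG_bin (h2 : p ≠ 2) : Bin (resG G (rg (s * t))) := by
  intro Q h1 hdiff
  by_cases hne : ∃ a ∈ Q, a.1 ≠ 0
  · obtain ⟨a₀, ha₀, ha₀0⟩ := hne
    obtain ⟨g, hg, hgQ⟩ := hb ((fun a => ((a.1 : V), (a.2 : V))) '' Q)
      (by
        rintro _ ⟨a, ha, rfl⟩
        obtain ⟨_, ⟨g, rfl⟩, e⟩ := h1 a ha
        exact ⟨g.1, g.2.1, congrArg Subtype.val e⟩)
      (by
        rintro _ ⟨a, ha, rfl⟩ _ ⟨b, hb', rfl⟩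
        obtain ⟨_, ⟨g, rfl⟩, e⟩ := hdiff a ha b hb'
        exact ⟨g.1, g.2.1, congrArg Subtype.val e⟩)
    have hgS : g ∈ stabG G (rg (s * t)) :=
      hq.mem_stabG hb h2 hg a₀.1.2 (fun h => ha₀0 (Subtype.ext h))
        (by rw [hgQ _ ⟨a₀, ha₀, rfl⟩]; exact a₀.2.2)
    exact ⟨_, ⟨⟨g, hgS⟩, rfl⟩, fun a ha => Subtype.ext (hgQ _ ⟨a, ha, rfl⟩)⟩
  · refine ⟨1, one_mem _, fun a ha => ?_⟩
    have ha0 : a.1 = 0 := by_contra fun h => hne ⟨a, ha, h⟩
    obtain ⟨g, -, e⟩ := h1 a ha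
    rw [← e, ha0, map_zero, map_zero]

theorem Pair.resG_axis (h2 : p ≠ 2) (hm : InC G s t m)
    (hmS : m ∈ stabG G (rg (s * t))) :
    IsAxis (resG G (rg (s * t))) (resHom G (rg (s * t)) ⟨m, hmS⟩) := by
  refine ⟨⟨_, rfl⟩, fun h => ?_, ?_⟩
  · refine hm.1.ne_one (fx_eq_top.1 (eq_top_iff.2 ?_))
    rw [← hq.sup_plane hb]
    refine sup_le hm.2 fun v hv => mem_fx.2 ?_
    exact congrArg Subtype.val (LinearEquiv.congr_fun h ⟨v, hv⟩)
  rintro _ ⟨⟨g, hgS⟩, rfl⟩ hne hle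
  by_contra hlt
  refine hne (LinearEquiv.ext fun v => Subtype.ext (mem_fx.1 ?_))
  change (v : V) ∈ fx g
  set Y := fx g ⊓ rg (s * t) with hY
  have hmY : fx m ⊓ rg (s * t) ≤ Y := fun w hw => ⟨mem_fx.2 (congrArg Subtype.val
    (mem_fx.1 (hle (mem_fx.2 (Subtype.ext (mem_fx.1 hw.1)) :
      (⟨w, hw.2⟩ : rg (s * t)) ∈ fx (resHom G _ ⟨m, hmS⟩))))), hw.2⟩
  have hlt' : fx m ⊓ rg (s * t) ≠ Y := fun h => hlt (le_antisymm (fun w hw => mem_fx.2 (Subtype.ext
    (mem_fx.1 (h.ge ⟨mem_fx.2 (congrArg Subtype.val (mem_fx.1 hw)), w.2⟩).1))) hle)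
  have hYr : rk s < finrank (ZMod p) Y := by
    rw [← hq.finrank_fx_inf_plane hb hm]
    exact Submodule.finrank_lt_finrank_of_lt (lt_of_le_of_ne hmY hlt')
  have hcomm : ∀ j, InC G s t j → g * j = j * g := by
    intro j hj
    have hjC := hq.conj_mem_inC hb h2 hgS hj
    obtain ⟨w, hw, hw0⟩ : ∃ w ∈ Y ⊓ (fx j ⊓ rg (s * t)), w ≠ 0 := by
      refine Submodule.exists_mem_ne_zero_of_ne_bot fun h => ?_
      have h1 := finrank_sup_of_disjoint h
      have h3 := Submodule.finrank_mono (sup_le (inf_le_right : Y ≤ rg (s * t))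
        (inf_le_right : fx j ⊓ rg (s * t) ≤ _))
      have h4 := h1.symm.le.trans h3
      rw [hq.finrank_fx_inf_plane hb hj, hq.finrank_plane hb] at h4
      omega
    have he : g * j * g⁻¹ = j := by
      by_contra hne'
      have hgw : g⁻¹ w = w := by
        conv_lhs => rw [← mem_fx.1 hw.1.1]
        rw [inv_app_app]
      have hd := hq.fx_plane_disj hb hjC hj hne'
      have hw' : w ∈ (fx (g * j * g⁻¹) ⊓ rg (s * t)) ⊓ (fx j ⊓ rg (s * t)) :=
        ⟨⟨(mem_fx_conj g j).2 (by rw [hgw]; exact hw.2.1), hw.2.2⟩, hw.2⟩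
      rw [hd] at hw'
      exact hw0 hw'
    exact mul_inv_eq_iff_eq_mul.1 he
  have hA : ∀ a ∈ grpA G s t, a * g = g * a := by
    intro a ha
    have e : a = a * s * s := by rw [mul_assoc, hq.left.sq hb, mul_one]
    have c1 := hcomm _ (hq.mul_inC hb ha hq.inC_left)
    have c2 := hcomm s hq.inC_left
    rw [e]
    calc a * s * s * g = a * s * (g * s) := by rw [mul_assoc (a * s), c2]
      _ = (g * (a * s)) * s := by rw [← mul_assoc, c1]
      _ = g * (a * s * s) := by rw [mul_assoc]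
  have hinv := hq.eq_plane_of_invariant hb (Y := Y) inf_le_right
    (fun h => by rw [h, finrank_bot] at hYr; omega)
    fun a ha w hw => ⟨comm_fx (hA a ha) hw.1, hq.app_plane hb ha.1 hw.2⟩
  exact (hinv.ge v.2).1

end

theorem mem_of_add_self {Y : Submodule (ZMod p) V} (h2 : p ≠ 2) {y : V} (h : y + y ∈ Y) :
    y ∈ Y := by
  rw [← two_smul (ZMod p)] at h
  rcases eq_or_ne (2 : ZMod p) 0 with h0 | h0
  · exfalso
    have h3 : ((2 : ℕ) : ZMod p) = 0 := by exact_mod_cast h0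
    rw [ZMod.natCast_eq_zero_iff] at h3
    exact h2 ((Nat.prime_dvd_prime_iff_eq hp.out Nat.prime_two).1 h3)
  · exact (Submodule.smul_mem_iff _ h0).1 h

section
variable (hb : Bin G) (hq : Pair G s t)
include hb hq

theorem Pair.plane_stable_two (h2 : p = 2) (hg : g ∈ G) :
    rg (g * s * g⁻¹ * (g * t * g⁻¹)) = rg (s * t) := by
  by_contra hne
  have hq' := hq.conj_pair hb hg
  have hP2 := hq.apart hb hq' hne
  have hP := hq'.apart hb hq fun h => hne h.symm
  set P := rg (s * t) with hPdef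
  set s₂ := g * s * g⁻¹ with hs₂
  obtain ⟨a, ha, ha0⟩ := Submodule.exists_mem_ne_zero_of_ne_bot hq.left.rg_ne_bot
  obtain ⟨v, hv, hsv⟩ : ∃ v ∈ P, s v - v = a := by
    obtain ⟨w, rfl⟩ := ha
    obtain ⟨x, hx, π, hπ, rfl⟩ := Submodule.mem_sup.1
      (show w ∈ fx s ⊓ fx t ⊔ P by rw [hPdef, hq.sup_plane hb]; trivial)
    exact ⟨π, hπ, by rw [dl_apply, map_add, mem_fx.1 hx.1]; abel⟩
  have haP : a ∈ P := hq.rg_left_le hb ha
  have hgP : ∀ w ∈ P, g w ∈ fx s ⊓ fx t := fun w hw =>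
    hP2 ((hq.mem_plane_conj hb).2 (by rwa [inv_app_app]))
  have hsa : s a = a := mem_fx.1 (hq.left.rg_le_fx_two hb h2 ha)
  have hsv' : s v = v + a := by rw [← hsv]; abel
  have e1 : s₂ (g v) = g v + g a := by rw [hs₂, mul_app, mul_app, inv_app_app, hsv', map_add]
  have e2 : s₂ (g a) = g a := by rw [hs₂, mul_app, mul_app, inv_app_app, hsa]
  have e3 : s₂ v = v := mem_fx.1 (hP hv).1
  have e4 : s (g v) = g v := mem_fx.1 (hgP v hv).1
  have e5 : s (g a) = g a := mem_fx.1 (hgP a haP).1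
  have hwG : s * s₂ ∈ G := mul_mem hq.left.mem (hq.left.conj hg).mem
  set z := v + g v with hz
  have hz' : (s * s₂) z = z + (a + g a) := by
    simp only [hz, mul_app, map_add, e1, e3, e4, e5, hsv']; abel
  have hga : (s * s₂) (g a) = g a := by rw [mul_app, e2, e5]
  obtain ⟨k, -, hk⟩ := hb {(0, 0), (z, z), (z + g a, z + g a), (g a, a)}
    (by
      intro x hx
      simp only [Set.mem_insert_iff, Set.mem_singleton_iff] at hx
      rcases hx with rfl | rfl | rfl | rfl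
      exacts [⟨1, one_mem _, rfl⟩, ⟨1, one_mem _, rfl⟩, ⟨1, one_mem _, rfl⟩,
        ⟨g⁻¹, inv_mem hg, inv_app_app g a⟩])
    (by
      intro x hx y hy
      simp only [Set.mem_insert_iff, Set.mem_singleton_iff] at hx hy
      have w1 : g⁻¹ (g a - 0) = a - 0 := by simp [inv_app_app]
      have w2 : (s * s₂) (g a - z) = a - z := by
        rw [map_sub, hga, hz', ← sub_eq_zero]
        have := add_self_two h2 a
        calc g a - (z + (a + g a)) - (a - z) = -(a + a) := by abel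
          _ = 0 := by rw [this, neg_zero]
      have w3 : (s * s₂) (g a - (z + g a)) = a - (z + g a) := by
        rw [map_sub, map_add, hga, hz', ← sub_eq_zero]
        have := add_self_two h2 a
        calc g a - (z + (a + g a) + g a) - (a - (z + g a)) = -(a + a) := by abel
          _ = 0 := by rw [this, neg_zero]
      rcases hx with rfl | rfl | rfl | rfl <;> rcases hy with rfl | rfl | rfl | rfl
      · exact ⟨1, one_mem _, rfl⟩
      · exact ⟨1, one_mem _, rfl⟩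
      · exact ⟨1, one_mem _, rfl⟩
      · exact pair_symm ⟨g⁻¹, inv_mem hg, w1⟩
      · exact ⟨1, one_mem _, rfl⟩
      · exact ⟨1, one_mem _, rfl⟩
      · exact ⟨1, one_mem _, rfl⟩
      · exact pair_symm ⟨_, hwG, w2⟩
      · exact ⟨1, one_mem _, rfl⟩
      · exact ⟨1, one_mem _, rfl⟩
      · exact ⟨1, one_mem _, rfl⟩
      · exact pair_symm ⟨_, hwG, w3⟩
      · exact ⟨g⁻¹, inv_mem hg, w1⟩
      · exact ⟨_, hwG, w2⟩
      · exact ⟨_, hwG, w3⟩
      · exact ⟨1, one_mem _, by simp only [sub_self]; exact map_zero _⟩)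
  have k1 := hk (z, z) (by simp)
  have k2 := hk (z + g a, z + g a) (by simp)
  have k3 := hk (g a, a) (by simp)
  simp only at k1 k2 k3
  rw [map_add, k1, k3, add_right_inj] at k2
  have h : a ∈ fx s ⊓ fx t ⊓ P := ⟨k2.symm ▸ hgP a haP, haP⟩
  rw [hPdef, hq.inf_plane hb, Submodule.mem_bot] at h
  exact ha0 h

theorem Pair.plane_stable_odd (h2 : p ≠ 2) (hg : g ∈ G) :
    rg (g * s * g⁻¹ * (g * t * g⁻¹)) = rg (s * t) := by
  classical
  by_contra hne
  have hq' := hq.conj_pair hb hg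
  have hP2 := hq.apart hb hq' hne
  set P := rg (s * t) with hPdef
  set X := fx s ⊓ fx t with hX
  have hXP : ∀ w, w ∈ X → w ∈ P → w = 0 := fun w h1 h2' => by
    have h : w ∈ X ⊓ P := ⟨h1, h2'⟩
    rwa [hX, hPdef, hq.inf_plane hb, Submodule.mem_bot] at h
  have hsS : s ∈ stabG G P := ⟨hq.left.mem, fun w => ⟨fun h => by
    have := hq.left_app_plane hb h
    rwa [← mul_app, hq.left.sq hb, one_app] at this, hq.left_app_plane hb⟩⟩
  have htS : t ∈ stabG G P := by
    have hl : ∀ w ∈ P, t w ∈ P := fun w hw => by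
      have := hq.symm.left_app_plane hb (v := w) (by rw [hq.plane_comm hb]; exact hw)
      rwa [hq.plane_comm hb] at this
    refine ⟨hq.right.mem, fun w => ⟨fun hw => ?_, hl w⟩⟩
    have := hl _ hw
    rwa [← mul_app, hq.right.sq hb, one_app] at this
  have hbR := hq.resG_bin hb h2
  set σ := resHom G P ⟨s, hsS⟩ with hσ
  set τ := resHom G P ⟨t, htS⟩ with hτ
  have hσa : IsAxis (resG G P) σ := hq.resG_axis hb h2 hq.inC_left hsS
  have hτa : IsAxis (resG G P) τ := hq.resG_axis hb h2 hq.inC_right htS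
  have hq₀ : Pair (resG G P) σ τ := by
    refine ⟨hσa, hτa, fun h => hq.nc (LinearEquiv.ext fun w => ?_)⟩
    obtain ⟨x, hx, π, hπ, rfl⟩ := Submodule.mem_sup.1
      (show w ∈ X ⊔ P by rw [hX, hPdef, hq.sup_plane hb]; trivial)
    have e := congrArg Subtype.val (LinearEquiv.congr_fun h ⟨π, hπ⟩)
    change s (t π) = t (s π) at e
    simp only [map_add, mul_app, mem_fx.1 hx.1, mem_fx.1 hx.2, e]
  have hX₀ : fx σ ⊓ fx τ = ⊥ := by
    refine eq_bot_iff.2 fun w hw => ?_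
    rw [Submodule.mem_bot]
    refine Subtype.ext (hXP w.1 ⟨mem_fx.2 ?_, mem_fx.2 ?_⟩ w.2)
    exacts [congrArg Subtype.val (mem_fx.1 hw.1), congrArg Subtype.val (mem_fx.1 hw.2)]
  have hr₀ : rk σ = rk s := by
    have h := hq₀.finrank_X hbR
    rw [hX₀, finrank_bot] at h
    have h' := hq.finrank_plane hb
    have h'' := h.trans h'
    omega
  obtain ⟨z₀, hz₀⟩ : ∃ z : grpA G s t, orderOf z = 2 := by
    haveI := Fact.mk Nat.prime_two
    refine exists_prime_orderOf_dvd_card' 2 ?_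
    rw [hq.natCard_grpA hb]
    exact even_iff_two_dvd.1 ((hp.out.odd_of_ne_two h2).pow.add_one)
  set z := (z₀ : V ≃ₗ[ZMod p] V) with hz
  have hzA : z ∈ grpA G s t := z₀.2
  have hz2 : z * z = 1 := by
    have := pow_orderOf_eq_one z₀
    rw [hz₀, pow_two] at this
    exact congrArg Subtype.val this
  have hz1 : z ≠ 1 := fun h => by
    rw [show z₀ = 1 from Subtype.ext h, orderOf_one] at hz₀
    omega
  have hzneg : ∀ w ∈ P, z w = -w := by
    intro w hw
    refine eq_neg_of_add_eq_zero_left (by_contra fun h0 => hz1 ?_)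
    refine hq.semiregular hb hzA
      (fun hX' => h0 (hXP _ hX' (Submodule.add_mem _ (hq.app_plane hb hzA.1 hw) hw))) ?_
    rw [map_add, ← mul_app, hz2, one_app, add_comm]
  have hzX : ∀ w ∈ X, z w = w := fun w hw => mem_fx.1 (hzA.1.2 hw)
  obtain ⟨x, hx, hx0⟩ : ∃ x ∈ fx s ⊓ P, x ≠ 0 := by
    refine Submodule.exists_mem_ne_zero_of_ne_bot fun h => ?_
    have := hq.finrank_fx_inf_plane hb hq.inC_left
    rw [← hPdef, h, finrank_bot] at this
    exact hq.left.rk_pos.ne this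
  -- the stabiliser of `x` in the induced group
  have hfix : ∀ f ∈ stabG G P, f x = x → (∀ w ∈ P, f w = w) ∨ ∀ w ∈ P, f w = s w := by
    intro f hf hfx
    have hfR : resHom G P ⟨f, hf⟩ ∈ resG G P := ⟨_, rfl⟩
    have hle := hq₀.stab hbR hq₀.inC_left (u := ⟨x, hx.2⟩) (mem_fx.2 (Subtype.ext (mem_fx.1 hx.1)))
      (by rw [hX₀, Submodule.mem_bot]; exact fun h => hx0 (congrArg Subtype.val h))
      (g := resHom G P ⟨f, hf⟩) ⟨hfR, by rw [hX₀]; exact bot_le⟩ (Subtype.ext hfx)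
    rcases hq₀.eq_or_of_le hbR hq₀.inC_left hfR hle with h | h
    · exact Or.inl fun w hw => congrArg Subtype.val (LinearEquiv.congr_fun h ⟨w, hw⟩)
    · exact Or.inr fun w hw => congrArg Subtype.val (LinearEquiv.congr_fun h ⟨w, hw⟩)
  let orb : Set V := {w | ∃ f ∈ stabG G P, f x = w}
  have horb : orb.ncard ≤ p ^ rk s + 1 := by
    have hsub : orb ⊆ Set.range (fun c : grpA (resG G P) σ τ =>
        (((c : P ≃ₗ[ZMod p] P) ⟨x, hx.2⟩ : P) : V)) := by
      rintro w ⟨f, hf, rfl⟩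
      have hfF : resHom G P ⟨f, hf⟩ ∈ fixG (resG G P) (fx σ ⊓ fx τ) :=
        ⟨⟨_, rfl⟩, by rw [hX₀]; exact bot_le⟩
      rcases hq₀.mem_or hbR hfF with h | h
      · exact ⟨⟨_, h⟩, rfl⟩
      · refine ⟨⟨_, hq₀.mul_mem_grpA hbR h hq₀.inC_left⟩, ?_⟩
        change f (s x) = f x
        rw [mem_fx.1 hx.1]
    refine (Set.ncard_le_ncard hsub).trans ?_
    rw [← Nat.card_coe_set_eq]
    refine (Finite.card_range_le _).trans ?_
    rw [hq₀.natCard_grpA hbR, hr₀]
  obtain ⟨y, hy, hyorb, hys⟩ : ∃ y ∈ P, y ∉ orb ∧ y ∉ rg s := by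
    by_contra! hall
    have hsub : {w : V | w ∈ P ∧ w ≠ 0} ⊆ orb ∪ {w : V | w ∈ rg s ∧ w ≠ 0} := by
      rintro w ⟨hw, hw0⟩
      by_cases h : w ∈ orb
      exacts [Or.inl h, Or.inr ⟨hall w hw h, hw0⟩]
    have h1 := (Set.ncard_le_ncard hsub).trans (Set.ncard_union_le _ _)
    rw [ncard_ne_zero, ncard_ne_zero] at h1
    have h' := hq.finrank_plane hb
    rw [← hPdef] at h'
    rw [h', mul_comm 2, pow_mul] at h1
    have hrs : finrank (ZMod p) (rg s) = rk s := rfl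
    rw [hrs] at h1
    have h3 : 3 ≤ p ^ rk s := by
      refine le_trans ?_ (Nat.le_self_pow hq.left.rk_pos.ne' p)
      have := hp.out.two_le
      omega
    generalize p ^ rk s = Q at h1 h3 horb
    have h4 : 3 * Q ≤ Q ^ 2 := by rw [pow_two]; exact Nat.mul_le_mul_right Q h3
    omega
  have hy0 : y ≠ 0 := fun h => hys (h ▸ zero_mem _)
  obtain ⟨k, hk, -, k1, k2⟩ := hb.swap hg (X := (∅ : Set V)) (by simp) x
  have hgk : g⁻¹ * k ∈ stabG G P := hq.mem_stabG hb h2 (mul_mem (inv_mem hg) hk) hx.2 hx0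
    (by rw [mul_app, k1, inv_app_app]; exact hx.2)
  have hkP : ∀ w ∈ P, k w ∈ X := fun w hw =>
    hP2 ((hq.mem_plane_conj hb).2 (by rw [← mul_app]; exact (hgk.2 w).2 hw))
  have hkx : k (k x) = x := by rw [k1, k2]
  have hkkS : k * k ∈ stabG G P :=
    hq.mem_stabG hb h2 (mul_mem hk hk) hx.2 hx0 (by rw [mul_app, hkx]; exact hx.2)
  have hkk : ∀ w ∈ P, k (k w) ∈ P := fun w hw => (hkkS.2 w).2 hw
  set h := z * k with hh
  have hhu : h (x + k y) = k x + -(k (k y)) := by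
    rw [hh, mul_app, map_add, map_add, hzX _ (hkP x hx.2), hzneg _ (hkk y hy)]
  have hhG : h ∈ G := mul_mem hzA.1.1 hk
  obtain ⟨k', hk', -, f1, f2⟩ := hb.swap hhG (X := (∅ : Set V)) (by simp) (x + k y)
  rw [hhu] at f1 f2
  rw [map_add] at f1
  rw [map_add, map_neg] at f2
  have hk'P : k' x ∈ P ∨ ∀ w ∈ P, k' w ∈ X := by
    by_cases hc : k' x ∈ P
    · exact Or.inl hc
    refine Or.inr fun w hw => ?_
    have hne' : rg (k' * s * k'⁻¹ * (k' * t * k'⁻¹)) ≠ P := fun he => hc (by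
      rw [← he, hq.mem_plane_conj hb, inv_app_app]; exact hx.2)
    exact hq.apart hb (hq.conj_pair hb hk') hne'
      ((hq.mem_plane_conj hb).2 (by rwa [inv_app_app]))
  have hk'k : k' * k ∈ stabG G P ∨ ∀ w ∈ P, k' (k w) ∈ X := by
    have hkk' := mul_mem hk' hk
    by_cases hc : k' (k x) ∈ P
    · exact Or.inl (hq.mem_stabG hb h2 hkk' hx.2 hx0 hc)
    refine Or.inr fun w hw => ?_
    have hne' : rg ((k' * k) * s * (k' * k)⁻¹ * ((k' * k) * t * (k' * k)⁻¹)) ≠ P := fun he => hc (by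
      rw [← he, hq.mem_plane_conj hb, ← mul_app k' k, inv_app_app]; exact hx.2)
    exact hq.apart hb (hq.conj_pair hb hkk') hne'
      ((hq.mem_plane_conj hb).2 (by rwa [← mul_app k' k, inv_app_app]))
  have hkky : k (k y) = y ∨ k (k y) = s y := by
    rcases hfix _ hkkS hkx with e | e
    exacts [Or.inl (e y hy), Or.inr (e y hy)]
  by_cases hcase : k' x ∈ P
  · -- the plane is preserved
    have hk'S := hq.mem_stabG hb h2 hk' hx.2 hx0 hcase
    have hk'y : k' (k y) ∈ X := by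
      rcases hk'k with h' | h'
      · exfalso
        have hkS : k ∈ stabG G P := by
          have := mul_mem (inv_mem hk'S) h'
          rwa [inv_mul_cancel_left] at this
        exact hx0 (LinearEquiv.map_eq_zero_iff k |>.1 (hXP _ (hkP x hx.2) ((hkS.2 x).2 hx.2)))
      · exact h' y hy
    have e : k' x = -(k (k y)) := by
      refine sub_eq_zero.1 (hXP _ ?_ (Submodule.sub_mem _ hcase (Submodule.neg_mem _ (hkk y hy))))
      rw [show k' x - -(k (k y)) = k x - k' (k y) by rw [sub_eq_sub_iff_add_eq_add, f1]]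
      exact Submodule.sub_mem _ (hkP x hx.2) hk'y
    have hzS : z ∈ stabG G P := hq.mem_stabG hb h2 hzA.1.1 hx.2 hx0 (hq.app_plane hb hzA.1 hx.2)
    refine hyorb ?_
    rcases hkky with e' | e'
    · refine ⟨z * k', mul_mem hzS hk'S, ?_⟩
      rw [mul_app, e, map_neg, hzneg _ (hkk y hy), neg_neg, e']
    · refine ⟨s * (z * k'), mul_mem hsS (mul_mem hzS hk'S), ?_⟩
      rw [mul_app, mul_app, e, map_neg, hzneg _ (hkk y hy), neg_neg, e', ← mul_app,
        hq.left.sq hb, one_app]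
  -- the planes are exchanged
  have hX' : ∀ w ∈ P, k' w ∈ X := hk'P.resolve_left hcase
  rcases hk'k with h' | h'
  swap
  · refine hy0 ((LinearEquiv.map_eq_zero_iff k).1 ((LinearEquiv.map_eq_zero_iff k).1 ?_))
    refine hXP _ ?_ (hkk y hy)
    rw [show k (k y) = k x - (k' x + k' (k y)) by rw [f1]; abel]
    exact Submodule.sub_mem _ (hkP x hx.2) (Submodule.add_mem _ (hX' x hx.2) (h' y hy))
  have e1 : k' (k y) + k (k y) = 0 := by
    refine hXP _ ?_ (Submodule.add_mem _ ((h'.2 y).2 hy) (hkk y hy))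
    rw [show k' (k y) + k (k y) = k x - k' x by
      rw [eq_sub_iff_add_eq, add_comm, ← add_assoc, f1]; abel]
    exact Submodule.sub_mem _ (hkP x hx.2) (hX' x hx.2)
  have e2 : k' x = k x := by
    rw [eq_neg_of_add_eq_zero_left e1, add_left_inj] at f1
    exact f1
  have e3 : -k' (k (k y)) = k y := by
    refine sub_eq_zero.1 (hXP _ ?_ ?_)
    · exact Submodule.sub_mem _ (Submodule.neg_mem _ (hX' _ (hkk y hy))) (hkP y hy)
    · rw [show -k' (k (k y)) - k y = x - k' (k x) by rw [sub_eq_sub_iff_add_eq_add, add_comm, f2]]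
      exact Submodule.sub_mem _ hx.2 ((h'.2 x).2 hx.2)
  set η := k⁻¹ * k' with hη
  have hηx : η x = x := by rw [hη, mul_app, e2, inv_app_app]
  have hηS : η ∈ stabG G P :=
    hq.mem_stabG hb h2 (mul_mem (inv_mem hk) hk') hx.2 hx0 (by rw [hηx]; exact hx.2)
  have hηy : η (k (k y)) = -y := by
    rw [hη, mul_app, ← neg_neg (k' (k (k y))), e3, map_neg, inv_app_app]
  have hs1 : s y = -y → False := fun h1 => hys <| mem_of_add_self h2 (by
    have := Submodule.neg_mem _ (sub_mem_rg s y)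
    rwa [h1, neg_sub, sub_neg_eq_add] at this)
  have hsy : s y ∈ P := hq.left_app_plane hb hy
  rcases hfix η hηS hηx with e | e <;> rcases hkky with e' | e' <;> rw [e'] at hηy
  · rw [e y hy] at hηy
    exact hy0 (neg_cancel' h2 hηy.symm)
  · rw [e _ hsy] at hηy
    exact hs1 hηy
  · rw [e y hy] at hηy
    exact hs1 hηy
  · rw [e _ hsy, ← mul_app, hq.left.sq hb, one_app] at hηy
    exact hy0 (neg_cancel' h2 hηy.symm)

/-- In an irreducible group, two noncommuting axes have no common nonzero fixed vector. -/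
theorem Pair.X_eq_bot
    (hirr : ∀ Y : Submodule (ZMod p) V, (∀ g ∈ G, ∀ v ∈ Y, g v ∈ Y) → Y = ⊥ ∨ Y = ⊤) :
    fx s ⊓ fx t = ⊥ := by
  have hstable : ∀ g ∈ G, ∀ v ∈ rg (s * t), g v ∈ rg (s * t) := by
    intro g hg v hv
    have he : rg (g * s * g⁻¹ * (g * t * g⁻¹)) = rg (s * t) := by
      rcases eq_or_ne p 2 with h2 | h2
      exacts [hq.plane_stable_two hb h2 hg, hq.plane_stable_odd hb h2 hg]
    rw [← he, hq.mem_plane_conj hb, inv_app_app]
    exact hv
  rcases hirr _ hstable with h | h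
  · exfalso
    have := hq.finrank_plane hb
    rw [h, finrank_bot] at this
    have := hq.left.rk_pos
    omega
  · have h' := hq.inf_plane hb
    rwa [h, inf_top_eq] at h'

end

end Cfsg.Agent.LocalEven61.Binary
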