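import Mathlib

/-!
Linear groups whose affine extension is binary: axes and elementary lemmas.
-/

set_option autoImplicit false
set_option linter.unusedSectionVars false

namespace Cfsg.Agent.LocalEven61.Binary

open Module

variable {p : ℕ} {V : Type*} [AddCommGroup V] [Module (ZMod p) V]

/-- The action of `G` on `V` by translations and `G` is binary: a partial map which is pairwise
realised by the affine group is realised by one element. -/
def Bin (G : Subgroup (V ≃ₗ[ZMod p] V)) : Prop :=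
  ∀ P : Set (V × V), (∀ a ∈ P, ∃ g ∈ G, g a.1 = a.2) →
    (∀ a ∈ P, ∀ b ∈ P, ∃ g ∈ G, g (a.1 - b.1) = a.2 - b.2) →
    ∃ g ∈ G, ∀ a ∈ P, g a.1 = a.2

/-- The map `v ↦ g v - v`. -/
def dl (g : V ≃ₗ[ZMod p] V) : V →ₗ[ZMod p] V := g.toLinearMap - LinearMap.id

/-- Fixed space. -/
def fx (g : V ≃ₗ[ZMod p] V) : Submodule (ZMod p) V := LinearMap.ker (dl g)

/-- The image of `v ↦ g v - v`. -/
def rg (g : V ≃ₗ[ZMod p] V) : Submodule (ZMod p) V := LinearMap.range (dl g)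

/-- A nontrivial element with maximal fixed space. -/
structure IsAxis (G : Subgroup (V ≃ₗ[ZMod p] V)) (s : V ≃ₗ[ZMod p] V) : Prop where
  mem : s ∈ G
  ne_one : s ≠ 1
  max : ∀ g ∈ G, g ≠ 1 → fx s ≤ fx g → fx g = fx s

variable {G : Subgroup (V ≃ₗ[ZMod p] V)} {g h k s t : V ≃ₗ[ZMod p] V} {u v : V}

theorem mul_app (f g : V ≃ₗ[ZMod p] V) (x : V) : (f * g) x = f (g x) := rfl

theorem one_app (x : V) : (1 : V ≃ₗ[ZMod p] V) x = x := rfl

theorem inv_app_app (f : V ≃ₗ[ZMod p] V) (x : V) : f⁻¹ (f x) = x := f.symm_apply_apply x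

theorem app_inv_app (f : V ≃ₗ[ZMod p] V) (x : V) : f (f⁻¹ x) = x := f.apply_symm_apply x

theorem dl_apply (g : V ≃ₗ[ZMod p] V) (v : V) : dl g v = g v - v := rfl

theorem mem_fx : v ∈ fx g ↔ g v = v := by
  rw [fx, LinearMap.mem_ker, dl_apply, sub_eq_zero]

theorem mem_rg : v ∈ rg g ↔ ∃ u, g u - u = v := Iff.rfl

theorem sub_mem_rg (g : V ≃ₗ[ZMod p] V) (v : V) : g v - v ∈ rg g := ⟨v, rfl⟩

theorem fx_eq_top : fx g = ⊤ ↔ g = 1 := by
  refine ⟨fun h => LinearEquiv.ext fun x => ?_, fun h => ?_⟩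
  · exact mem_fx.1 (h ▸ Submodule.mem_top)
  · subst h; exact eq_top_iff.2 fun x _ => mem_fx.2 rfl

theorem rg_eq_bot : rg g = ⊥ ↔ g = 1 := by
  refine ⟨fun h => LinearEquiv.ext fun x => ?_, fun h => ?_⟩
  · have := sub_mem_rg g x
    rw [h, Submodule.mem_bot, sub_eq_zero] at this
    exact this
  · subst h
    refine eq_bot_iff.2 fun x hx => ?_
    obtain ⟨u, rfl⟩ := hx
    simp [dl_apply, one_app]

theorem fx_inv (g : V ≃ₗ[ZMod p] V) : fx g⁻¹ = fx g := by
  ext x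
  rw [mem_fx, mem_fx]
  constructor <;> intro h
  · conv_lhs => rw [← h]
    rw [app_inv_app]
  · conv_lhs => rw [← h]
    rw [inv_app_app]

theorem rg_inv (g : V ≃ₗ[ZMod p] V) : rg g⁻¹ = rg g := by
  have key : ∀ f : V ≃ₗ[ZMod p] V, rg f⁻¹ ≤ rg f := by
    rintro f x ⟨u, rfl⟩
    refine ⟨-(f⁻¹ u), ?_⟩
    simp only [dl_apply, map_neg, app_inv_app]
    abel
  exact le_antisymm (key g) (by simpa using key g⁻¹)

theorem mem_fx_mul (hg : v ∈ fx g) (hh : v ∈ fx h) : v ∈ fx (g * h) := by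
  rw [mem_fx] at *
  rw [mul_app, hh, hg]

theorem le_fx_mul {X : Submodule (ZMod p) V} (hg : X ≤ fx g) (hh : X ≤ fx h) : X ≤ fx (g * h) :=
  fun _ hx => mem_fx_mul (hg hx) (hh hx)

theorem le_fx_inv {X : Submodule (ZMod p) V} (hg : X ≤ fx g) : X ≤ fx g⁻¹ := by rwa [fx_inv]

theorem le_fx_one {X : Submodule (ZMod p) V} : X ≤ fx (1 : V ≃ₗ[ZMod p] V) :=
  fun _ _ => mem_fx.2 rfl

theorem le_fx_pow {X : Submodule (ZMod p) V} (hg : X ≤ fx g) (n : ℕ) : X ≤ fx (g ^ n) := by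
  induction n with
  | zero => rw [pow_zero]; exact le_fx_one
  | succ n ih => rw [pow_succ]; exact le_fx_mul ih hg

theorem mem_fx_conj (x g : V ≃ₗ[ZMod p] V) : v ∈ fx (x * g * x⁻¹) ↔ x⁻¹ v ∈ fx g := by
  rw [mem_fx, mem_fx, mul_app, mul_app]
  constructor <;> intro h
  · conv_rhs => rw [← h]
    rw [inv_app_app]
  · rw [h, app_inv_app]

theorem mem_rg_conj (x g : V ≃ₗ[ZMod p] V) : v ∈ rg (x * g * x⁻¹) ↔ x⁻¹ v ∈ rg g := by
  constructor
  · rintro ⟨u, rfl⟩
    exact ⟨x⁻¹ u, by simp only [dl_apply, map_sub, mul_app, inv_app_app]⟩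
  · rintro ⟨u, hu⟩
    refine ⟨x u, ?_⟩
    simp only [dl_apply, mul_app, inv_app_app] at hu ⊢
    rw [← map_sub, hu, app_inv_app]

theorem comm_fx (hc : h * g = g * h) (hv : v ∈ fx g) : h v ∈ fx g := by
  rw [mem_fx] at *
  rw [← mul_app, ← hc, mul_app, hv]

theorem comm_rg (hc : h * g = g * h) (hv : v ∈ rg g) : h v ∈ rg g := by
  obtain ⟨u, rfl⟩ := hv
  refine ⟨h u, ?_⟩
  rw [dl_apply, dl_apply, map_sub, ← mul_app g h, ← hc, mul_app]

theorem app_sub (hs : s * s = 1) (v : V) : s (s v - v) = -(s v - v) := by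
  rw [map_sub, ← mul_app, hs, one_app, neg_sub]

theorem app_rg_neg (hs : s * s = 1) (hv : v ∈ rg s) : s v = -v := by
  obtain ⟨u, rfl⟩ := hv
  exact app_sub hs u

theorem inv_of_sq (hs : s * s = 1) : s⁻¹ = s := inv_eq_of_mul_eq_one_right hs

theorem comm_of_sq (hs : s * s = 1) (ht : t * t = 1) (hst : (s * t) * (s * t) = 1) :
    s * t = t * s := by
  have := inv_of_sq hst
  rwa [mul_inv_rev, inv_of_sq hs, inv_of_sq ht, eq_comm] at this

variable [hp : Fact p.Prime]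

theorem two_cancel (h2 : p ≠ 2) {x : V} (hx : x + x = 0) : x = 0 := by
  have h : (2 : ZMod p) • x = 0 := by rw [two_smul]; exact hx
  rcases smul_eq_zero.1 h with h' | h'
  · exfalso
    have h3 : ((2 : ℕ) : ZMod p) = 0 := by exact_mod_cast h'
    rw [ZMod.natCast_eq_zero_iff] at h3
    exact h2 ((Nat.prime_dvd_prime_iff_eq hp.out Nat.prime_two).1 h3)
  · exact h'

theorem neg_cancel' (h2 : p ≠ 2) {x : V} (hx : -x = x) : x = 0 :=
  two_cancel h2 (by nth_rw 1 [← hx]; exact neg_add_cancel x)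

theorem add_self_two (h2 : p = 2) (x : V) : x + x = 0 := by
  have h : ((p : ℕ) : ZMod p) • x = 0 := by rw [ZMod.natCast_self, zero_smul]
  rw [Nat.cast_smul_eq_nsmul (ZMod p), h2, two_nsmul] at h
  exact h

theorem neg_two (h2 : p = 2) (x : V) : -x = x := neg_eq_of_add_eq_zero_left (add_self_two h2 x)

theorem pair_symm {a b c d : V} (h : ∃ g ∈ G, g (a - b) = c - d) :
    ∃ g ∈ G, g (b - a) = d - c := by
  obtain ⟨g, hg, e⟩ := h
  exact ⟨g, hg, by rw [← neg_sub a b, map_neg, e, neg_sub]⟩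

variable [Finite V]

instance finite_aut : Finite (V ≃ₗ[ZMod p] V) :=
  Finite.of_injective (fun g => (g : V → V)) DFunLike.coe_injective

theorem finrank_fx_add_rg (g : V ≃ₗ[ZMod p] V) :
    finrank (ZMod p) (fx g) + finrank (ZMod p) (rg g) = finrank (ZMod p) V := by
  rw [add_comm]
  exact LinearMap.finrank_range_add_finrank_ker (dl g)

theorem finrank_pos_of_ne_bot {X : Submodule (ZMod p) V} (hX : X ≠ ⊥) :
    0 < finrank (ZMod p) X :=
  Nat.pos_of_ne_zero fun h => hX (Submodule.finrank_eq_zero.1 h)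

theorem finrank_sup_of_disjoint {X Y : Submodule (ZMod p) V} (h : X ⊓ Y = ⊥) :
    finrank (ZMod p) ↥(X ⊔ Y) = finrank (ZMod p) X + finrank (ZMod p) Y := by
  have := Submodule.finrank_sup_add_finrank_inf_eq X Y
  rw [h, finrank_bot, add_zero] at this
  exact this

theorem finrank_add_le_of_le {X Y Z : Submodule (ZMod p) V} (h : X ⊓ Y = ⊥) (hX : X ≤ Z)
    (hY : Y ≤ Z) : finrank (ZMod p) X + finrank (ZMod p) Y ≤ finrank (ZMod p) Z := by
  rw [← finrank_sup_of_disjoint h]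
  exact Submodule.finrank_mono (sup_le hX hY)

theorem natCard_submodule (X : Submodule (ZMod p) V) : Nat.card X = p ^ finrank (ZMod p) X := by
  rw [Module.natCard_eq_pow_finrank (K := ZMod p), Nat.card_zmod]

/-! ### Consequences of binarity -/

/-- If `g` moves some vector by `k c - c` and fixes `c`, then `k` fixes `c`. -/
theorem Bin.kill (hb : Bin G) (hg : g ∈ G) (hk : k ∈ G) {c : V} (hc : g c = c)
    (h : k c - c ∈ rg g) : k c = c := by
  obtain ⟨v, hv⟩ := h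
  rw [dl_apply] at hv
  set a := k c - c with ha
  have h1 : g (v + c) = v + c + a := by rw [map_add, hc, ← hv]; abel
  have h2 : k c = c + a := by rw [ha]; abel
  have h3 : g v = v + a := by rw [← hv]; abel
  obtain ⟨w, -, hw⟩ := hb {(0, 0), (v, v), (c, c), (v + c, v + c + a)}
    (by
      intro x hx
      simp only [Set.mem_insert_iff, Set.mem_singleton_iff] at hx
      rcases hx with rfl | rfl | rfl | rfl
      exacts [⟨1, one_mem _, rfl⟩, ⟨1, one_mem _, rfl⟩, ⟨1, one_mem _, rfl⟩, ⟨g, hg, h1⟩])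
    (by
      intro x hx y hy
      simp only [Set.mem_insert_iff, Set.mem_singleton_iff] at hx hy
      have w1 : g (v + c - 0) = v + c + a - 0 := by simpa using h1
      have w2 : k (v + c - v) = v + c + a - v := by
        rw [add_sub_cancel_left, h2]; abel
      have w3 : g (v + c - c) = v + c + a - c := by
        rw [add_sub_cancel_right, h3]; abel
      rcases hx with rfl | rfl | rfl | rfl <;> rcases hy with rfl | rfl | rfl | rfl
      · exact ⟨1, one_mem _, rfl⟩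
      · exact ⟨1, one_mem _, rfl⟩
      · exact ⟨1, one_mem _, rfl⟩
      · exact pair_symm ⟨g, hg, w1⟩
      · exact ⟨1, one_mem _, rfl⟩
      · exact ⟨1, one_mem _, rfl⟩
      · exact ⟨1, one_mem _, rfl⟩
      · exact pair_symm ⟨k, hk, w2⟩
      · exact ⟨1, one_mem _, rfl⟩
      · exact ⟨1, one_mem _, rfl⟩
      · exact ⟨1, one_mem _, rfl⟩
      · exact pair_symm ⟨g, hg, w3⟩
      · exact ⟨g, hg, w1⟩
      · exact ⟨k, hk, w2⟩
      · exact ⟨g, hg, w3⟩
      · exact ⟨1, one_mem _, by simp only [sub_self]; exact map_zero _⟩)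
  have e1 := hw (v, v) (by simp)
  have e2 := hw (c, c) (by simp)
  have e3 := hw (v + c, v + c + a) (by simp)
  simp only at e1 e2 e3
  rw [map_add, e1, e2] at e3
  have : a = 0 := by simpa using e3
  rw [h2, this, add_zero]

/-- An element commuting with `g` fixes `fx g ⊓ rg g` pointwise. -/
theorem Bin.fix_of_comm (hb : Bin G) (hg : g ∈ G) (hh : h ∈ G) (hc : h * g = g * h) {c : V}
    (hf : c ∈ fx g) (hr : c ∈ rg g) : h c = c :=
  hb.kill hg hh (mem_fx.1 hf) (Submodule.sub_mem _ (comm_rg hc hr) hr)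

/-- No two elements move a vector by opposite nonzero amounts, in odd characteristic. -/
theorem Bin.ap (hb : Bin G) (h2 : p ≠ 2) (hg : g ∈ G) (hh : h ∈ G) {u a : V}
    (e1 : g u = u + a) (e2 : h u = u - a) : a = 0 := by
  obtain ⟨w, -, hw⟩ := hb {(0, 0), (u + u, u + u), (u, u + a)}
    (by
      intro x hx
      simp only [Set.mem_insert_iff, Set.mem_singleton_iff] at hx
      rcases hx with rfl | rfl | rfl
      exacts [⟨1, one_mem _, rfl⟩, ⟨1, one_mem _, rfl⟩, ⟨g, hg, e1⟩])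
    (by
      intro x hx y hy
      simp only [Set.mem_insert_iff, Set.mem_singleton_iff] at hx hy
      have w1 : g (u - 0) = u + a - 0 := by simpa using e1
      have w2 : h (u + u - u) = u + u - (u + a) := by
        rw [add_sub_cancel_right, e2]; abel
      rcases hx with rfl | rfl | rfl <;> rcases hy with rfl | rfl | rfl
      · exact ⟨1, one_mem _, rfl⟩
      · exact ⟨1, one_mem _, rfl⟩
      · exact pair_symm ⟨g, hg, w1⟩
      · exact ⟨1, one_mem _, rfl⟩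
      · exact ⟨1, one_mem _, rfl⟩
      · exact ⟨h, hh, w2⟩
      · exact ⟨g, hg, w1⟩
      · exact pair_symm ⟨h, hh, w2⟩
      · exact ⟨1, one_mem _, by simp only [sub_self]; exact map_zero _⟩)
  have e3 := hw (u + u, u + u) (by simp)
  have e4 := hw (u, u + a) (by simp)
  simp only at e3 e4
  rw [map_add, e4] at e3
  refine two_cancel h2 ?_
  have : u + a + (u + a) - (u + u) = 0 := sub_eq_zero.2 e3
  rw [← this]; abel

/-- Semisimplicity in odd characteristic. -/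
theorem Bin.ss_odd (hb : Bin G) (h2 : p ≠ 2) (hg : g ∈ G) {u : V}
    (h : g (g u - u) = g u - u) : g u = u := by
  set a := g u - u with ha
  have e1 : g u = u + a := by rw [ha]; abel
  have e2 : g⁻¹ u = u - a := by
    have : g (u - a) = u := by rw [map_sub, h, e1]; abel
    conv_lhs => rw [← this]
    rw [inv_app_app]
  rw [e1, hb.ap h2 hg (inv_mem hg) e1 e2, add_zero]

/-- Semisimplicity for elements of odd order in characteristic two. -/
theorem ss_of_odd_order (h2 : p = 2) (ho : Odd (orderOf g)) {u : V}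
    (h : g (g u - u) = g u - u) : g u = u := by
  set a := g u - u with ha
  have hn : ∀ n : ℕ, (g ^ n) u = u + n • a := by
    intro n
    induction n with
    | zero => simp [one_app]
    | succ n ih =>
        rw [pow_succ', mul_app, ih, map_add, map_nsmul, h, succ_nsmul]
        have : g u = u + a := by rw [ha]; abel
        rw [this]; abel
  have h3 := hn (orderOf g)
  rw [pow_orderOf_eq_one, one_app] at h3
  obtain ⟨m, hm⟩ := ho
  rw [hm, succ_nsmul, mul_comm 2 m, mul_nsmul, two_nsmul, add_self_two h2, zero_add] at h3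
  have : a = 0 := by simpa using h3
  exact sub_eq_zero.1 this

/-- Fixed space and image are complementary for semisimple elements. -/
theorem fx_inf_rg_of_ss (h : ∀ u, g (g u - u) = g u - u → g u = u) : fx g ⊓ rg g = ⊥ := by
  refine eq_bot_iff.2 fun x hx => ?_
  obtain ⟨hf, u, rfl⟩ := hx
  rw [Submodule.mem_bot, dl_apply, sub_eq_zero]
  exact h u (mem_fx.1 hf)

theorem fx_sup_rg_of_inf (h : fx g ⊓ rg g = ⊥) : fx g ⊔ rg g = ⊤ :=
  Submodule.eq_top_of_disjoint _ _ (finrank_fx_add_rg g).ge (disjoint_iff.2 h)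

theorem Bin.fx_inf_rg (hb : Bin G) (h2 : p ≠ 2) (hg : g ∈ G) : fx g ⊓ rg g = ⊥ :=
  fx_inf_rg_of_ss fun _ => hb.ss_odd h2 hg

/-- Two vectors exchanged by an element fixing `X`. -/
theorem Bin.swap (hb : Bin G) (hh : h ∈ G) {X : Set V} (hX : ∀ x ∈ X, h x = x) (u : V) :
    ∃ k ∈ G, (∀ x ∈ X, k x = x) ∧ k u = h u ∧ k (h u) = u := by
  have w1 : h⁻¹ (u + h u - u) = u + h u - h u := by
    rw [add_sub_cancel_left, add_sub_cancel_right, inv_app_app]
  obtain ⟨k, hk, hk'⟩ := hb ((fun x => (x, x)) '' X ∪ {(u + h u, u + h u), (u, h u)})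
    (by
      rintro a (⟨x, -, rfl⟩ | ha)
      · exact ⟨1, one_mem _, rfl⟩
      simp only [Set.mem_insert_iff, Set.mem_singleton_iff] at ha
      rcases ha with rfl | rfl
      exacts [⟨1, one_mem _, rfl⟩, ⟨h, hh, rfl⟩])
    (by
      rintro a (⟨x, hx, rfl⟩ | ha) b (⟨y, hy, rfl⟩ | hb') <;>
        simp only [Set.mem_insert_iff, Set.mem_singleton_iff] at *
      · exact ⟨1, one_mem _, rfl⟩
      · rcases hb' with rfl | rfl
        exacts [⟨1, one_mem _, rfl⟩, ⟨h, hh, by rw [map_sub, hX x hx]⟩]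
      · rcases ha with rfl | rfl
        exacts [⟨1, one_mem _, rfl⟩, ⟨h, hh, by rw [map_sub, hX y hy]⟩]
      · rcases ha with rfl | rfl <;> rcases hb' with rfl | rfl
        · exact ⟨1, one_mem _, rfl⟩
        · exact ⟨h⁻¹, inv_mem hh, w1⟩
        · exact pair_symm ⟨h⁻¹, inv_mem hh, w1⟩
        · exact ⟨1, one_mem _, by simp only [sub_self]; exact map_zero _⟩)
  have e1 := hk' (u, h u) (Or.inr (by simp))
  have e2 := hk' (u + h u, u + h u) (Or.inr (by simp))
  simp only at e1 e2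
  refine ⟨k, hk, fun x hx => hk' (x, x) (Or.inl ⟨x, hx, rfl⟩), e1, ?_⟩
  rw [map_add, e1, add_comm] at e2
  exact add_right_cancel e2

/-- A regular orbit forces exponent two. -/
theorem Bin.sq_of_regular (hb : Bin G) {X : Set V} (u : V)
    (hu : ∀ k ∈ G, (∀ x ∈ X, k x = x) → k u = u → k = 1) (hh : h ∈ G)
    (hX : ∀ x ∈ X, h x = x) : h * h = 1 := by
  obtain ⟨k, hk, hkX, e1, e2⟩ := hb.swap hh hX u
  have h1 : h⁻¹ * k = 1 := by
    refine hu _ (mul_mem (inv_mem hh) hk) (fun x hx => ?_) ?_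
    · rw [mul_app, hkX x hx]
      conv_lhs => rw [← hX x hx]
      rw [inv_app_app]
    · rw [mul_app, e1, inv_app_app]
  have h2 : k = h := (inv_mul_eq_one.1 h1).symm
  subst h2
  refine hu _ (mul_mem hh hh) (fun x hx => by rw [mul_app, hX x hx, hX x hx]) ?_
  rw [mul_app, e2]

/-! ### Axes -/

theorem exists_axis (hg : g ∈ G) (h1 : g ≠ 1) : ∃ s, IsAxis G s ∧ fx g ≤ fx s := by
  obtain ⟨W, hgW, ⟨s, hs, hs1, rfl⟩, hmax⟩ := Finite.exists_le_maximal
    (p := fun W : Submodule (ZMod p) V => ∃ s ∈ G, s ≠ 1 ∧ fx s = W) (a := fx g) ⟨g, hg, h1, rfl⟩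
  exact ⟨s, ⟨hs, hs1, fun k hk hk1 hle => le_antisymm (hmax ⟨k, hk, hk1, rfl⟩ hle) hle⟩, hgW⟩

theorem IsAxis.eq_one (hs : IsAxis G s) (hg : g ∈ G) (hle : fx s ≤ fx g) (hv : v ∈ fx g)
    (hv' : v ∉ fx s) : g = 1 := by
  by_contra h
  exact hv' (hs.max g hg h hle ▸ hv)

theorem IsAxis.of_le (hs : IsAxis G s) (hg : g ∈ G) (h1 : g ≠ 1) (hle : fx s ≤ fx g) :
    IsAxis G g ∧ fx g = fx s := by
  have h := hs.max g hg h1 hle
  exact ⟨⟨hg, h1, fun k hk hk1 hk' => by rw [h]; exact hs.max k hk hk1 (h ▸ hk')⟩, h⟩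

theorem IsAxis.fx_eq_of_le (hs : IsAxis G s) (ht : IsAxis G t) (hle : fx s ≤ fx t) :
    fx s = fx t :=
  (hs.max t ht.mem ht.ne_one hle).symm

theorem IsAxis.exists_notMem (hs : IsAxis G s) : ∃ u, u ∉ fx s := by
  by_contra! h
  exact hs.ne_one (fx_eq_top.1 (eq_top_iff.2 fun x _ => h x))

theorem IsAxis.rg_ne_bot (hs : IsAxis G s) : rg s ≠ ⊥ := fun h => hs.ne_one (rg_eq_bot.1 h)

theorem IsAxis.conj (hs : IsAxis G s) {x : V ≃ₗ[ZMod p] V} (hx : x ∈ G) :
    IsAxis G (x * s * x⁻¹) := by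
  refine ⟨mul_mem (mul_mem hx hs.mem) (inv_mem hx), fun h => hs.ne_one (by simpa using h),
    fun k hk hk1 hle => ?_⟩
  have h2 : fx s ≤ fx (x⁻¹ * k * x⁻¹⁻¹) := by
    intro v hv
    rw [mem_fx_conj, inv_inv]
    apply hle
    rwa [mem_fx_conj, inv_app_app]
  have h3 := hs.max _ (mul_mem (mul_mem (inv_mem hx) hk) (by simpa using hx))
    (fun h => hk1 (by
      have := congrArg (fun z => x * z * x⁻¹) h
      simpa [mul_assoc] using this)) h2
  ext v
  have h4 := SetLike.ext_iff.1 h3 (x⁻¹ v)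
  rwa [mem_fx_conj, inv_inv, app_inv_app, ← mem_fx_conj x s] at h4

theorem IsAxis.sq_of_le (hb : Bin G) (hs : IsAxis G s) (hg : g ∈ G) (hle : fx s ≤ fx g) :
    g * g = 1 := by
  obtain ⟨u, hu⟩ := hs.exists_notMem
  refine hb.sq_of_regular (X := (fx s : Set V)) u (fun k hk hX hku => ?_) hg
    fun x hx => mem_fx.1 (hle hx)
  exact hs.eq_one hk (fun x hx => mem_fx.2 (hX x hx)) (mem_fx.2 hku) hu

theorem IsAxis.sq (hb : Bin G) (hs : IsAxis G s) : s * s = 1 := hs.sq_of_le hb hs.mem le_rfl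

theorem IsAxis.inv (hb : Bin G) (hs : IsAxis G s) : s⁻¹ = s := inv_of_sq (hs.sq hb)

theorem IsAxis.comm_of_fx (hb : Bin G) (hs : IsAxis G s) (ht : IsAxis G t) (h : fx s = fx t) :
    s * t = t * s :=
  comm_of_sq (hs.sq hb) (ht.sq hb)
    (hs.sq_of_le hb (mul_mem hs.mem ht.mem) (le_fx_mul le_rfl h.le))

theorem IsAxis.rg_le_fx_two (hb : Bin G) (h2 : p = 2) (hs : IsAxis G s) : rg s ≤ fx s :=
  fun v hv => mem_fx.2 (by rw [app_rg_neg (hs.sq hb) hv, neg_two h2])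

/-- In odd characteristic an axis is determined by its fixed space. -/
theorem IsAxis.eq_of_fx (hb : Bin G) (h2 : p ≠ 2) (hs : IsAxis G s) (ht : IsAxis G t)
    (h : fx s = fx t) : s = t := by
  have hc := hs.comm_of_fx hb ht h
  have hss := hs.sq hb
  refine (LinearEquiv.ext fun u => ?_)
  have e1 : t (u + s u) = u + s u := by
    refine mem_fx.1 (h ▸ mem_fx.2 ?_)
    rw [map_add, ← mul_app s s, hss, one_app, add_comm]
  have e2 : t (s u - u) = -(s u - u) := by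
    have hw : s u - u + t (s u - u) ∈ fx s ⊓ rg s := by
      refine ⟨?_, Submodule.add_mem _ (sub_mem_rg s u) (comm_rg hc.symm (sub_mem_rg s u))⟩
      refine h ▸ mem_fx.2 ?_
      rw [map_add, ← mul_app t t, ht.sq hb, one_app, add_comm]
    rw [hb.fx_inf_rg h2 hs.mem, Submodule.mem_bot] at hw
    exact eq_neg_of_add_eq_zero_right hw
  have e3 : t u + t u = s u + s u := by
    have e4 : t u + t u = t (u + s u) - t (s u - u) := by rw [map_add, map_sub]; abel
    rw [e4, e1, e2]; abel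
  refine (sub_eq_zero.1 (two_cancel h2 ?_)).symm
  rw [sub_add_sub_comm, sub_eq_zero]; exact e3

/-- The basic use of binarity with an axis `s`: a map which is the identity on `fx s` and on some
`B ≰ fx s` and is pairwise realised, is the identity. -/
theorem IsAxis.three (hb : Bin G) (hs : IsAxis G s) {B : Submodule (ZMod p) V} (hB : ¬ B ≤ fx s)
    (C : Set V) (σ : V → V) (h1 : ∀ c ∈ C, ∃ g ∈ G, g c = σ c)
    (hA : ∀ a ∈ fx s, ∀ c ∈ C, ∃ g ∈ G, g (a - c) = a - σ c)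
    (hB' : ∀ a ∈ B, ∀ c ∈ C, ∃ g ∈ G, g (a - c) = a - σ c)
    (hC : ∀ c ∈ C, ∀ d ∈ C, ∃ g ∈ G, g (c - d) = σ c - σ d) : ∀ c ∈ C, σ c = c := by
  obtain ⟨w, hw, hw'⟩ := hb
    {a | a.1 ∈ fx s ∧ a.2 = a.1 ∨ a.1 ∈ B ∧ a.2 = a.1 ∨ a.1 ∈ C ∧ a.2 = σ a.1}
    (by
      rintro ⟨a, b⟩ hab
      simp only [Set.mem_ofPred_eq] at hab
      rcases hab with ⟨-, rfl⟩ | ⟨-, rfl⟩ | ⟨ha, rfl⟩
      exacts [⟨1, one_mem _, rfl⟩, ⟨1, one_mem _, rfl⟩, h1 _ ha])
    (by
      rintro ⟨a, b⟩ hab ⟨c, d⟩ hcd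
      simp only [Set.mem_ofPred_eq] at hab hcd
      rcases hab with ⟨ha, rfl⟩ | ⟨ha, rfl⟩ | ⟨ha, rfl⟩ <;>
        rcases hcd with ⟨hc', rfl⟩ | ⟨hc', rfl⟩ | ⟨hc', rfl⟩
      exacts [⟨1, one_mem _, rfl⟩, ⟨1, one_mem _, rfl⟩, hA _ ha _ hc',
        ⟨1, one_mem _, rfl⟩, ⟨1, one_mem _, rfl⟩, hB' _ ha _ hc',
        pair_symm (hA _ hc' _ ha), pair_symm (hB' _ hc' _ ha), hC _ ha _ hc'])
  obtain ⟨x, hx, hx'⟩ := SetLike.not_le_iff_exists.1 hB
  have h1' : w = 1 := hs.eq_one hw (fun y hy => mem_fx.2 (hw' (y, y) (Or.inl ⟨hy, rfl⟩)))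
    (mem_fx.2 (hw' (x, x) (Or.inr (Or.inl ⟨hx, rfl⟩)))) hx'
  intro c hc
  have e := hw' (c, σ c) (Or.inr (Or.inr ⟨hc, rfl⟩))
  rw [h1', one_app] at e
  exact e.symm

/-- Commuting axes with different fixed spaces: each fixes the other's root. -/
theorem IsAxis.rg_le_fx (hb : Bin G) (hs : IsAxis G s) (ht : IsAxis G t) (hc : s * t = t * s)
    (hne : fx s ≠ fx t) : rg s ≤ fx t := by
  rcases eq_or_ne p 2 with h2 | h2
  · exact fun v hv => mem_fx.2 (hb.fix_of_comm hs.mem ht.mem hc.symm (hs.rg_le_fx_two hb h2 hv) hv)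
  have hM : ∀ m ∈ rg s ⊓ rg t, -m = m :=
    hs.three hb (B := fx t) (fun h => hne (ht.fx_eq_of_le hs h).symm) (rg s ⊓ rg t : Submodule _ V)
      (fun m => -m)
      (fun m hm => ⟨s, hs.mem, app_rg_neg (hs.sq hb) hm.1⟩)
      (fun a ha m hm => ⟨s, hs.mem, by rw [map_sub, mem_fx.1 ha, app_rg_neg (hs.sq hb) hm.1]⟩)
      (fun a ha m hm => ⟨t, ht.mem, by rw [map_sub, mem_fx.1 ha, app_rg_neg (ht.sq hb) hm.2]⟩)
      (fun m hm n hn => ⟨s, hs.mem, by
        rw [map_sub, app_rg_neg (hs.sq hb) hm.1, app_rg_neg (hs.sq hb) hn.1]⟩)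
  intro v hv
  have h : t v - v ∈ rg s ⊓ rg t :=
    ⟨Submodule.sub_mem _ (comm_rg hc.symm hv) hv, sub_mem_rg t v⟩
  exact mem_fx.2 (sub_eq_zero.1 (neg_cancel' h2 (hM _ h)))

/-- For noncommuting axes `s, t`, the fixed space of `s * t` is `fx s ⊓ fx t`. -/
theorem IsAxis.fx_mul (hb : Bin G) (hs : IsAxis G s) (ht : IsAxis G t) (hnc : s * t ≠ t * s) :
    fx (s * t) = fx s ⊓ fx t := by
  refine le_antisymm (fun v hv => ?_) fun v hv => mem_fx_mul hv.1 hv.2
  rw [mem_fx, mul_app] at hv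
  have htv : t v = s v := by
    conv_rhs => rw [← hv]
    rw [← mul_app s s, hs.sq hb, one_app]
  have e := hs.three hb (B := fx t)
    (fun h => hnc (hs.comm_of_fx hb ht (ht.fx_eq_of_le hs h).symm)) {v} s
    (fun c _ => ⟨s, hs.mem, rfl⟩)
    (fun a ha c _ => ⟨s, hs.mem, by rw [map_sub, mem_fx.1 ha]⟩)
    (fun a ha c hc => ⟨t, ht.mem, by
      rw [map_sub, mem_fx.1 ha, Set.mem_singleton_iff.1 hc, htv]⟩)
    (fun c _ d _ => ⟨s, hs.mem, map_sub s c d⟩) v rfl
  exact ⟨mem_fx.2 e, mem_fx.2 (htv.trans e)⟩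

/-- Noncommuting axes in odd characteristic: fixed space meets the other root trivially. -/
theorem IsAxis.fx_inf_rg_odd (hb : Bin G) (h2 : p ≠ 2) (hs : IsAxis G s) (ht : IsAxis G t)
    (hnc : s * t ≠ t * s) : fx s ⊓ rg t = ⊥ := by
  have hinv := hs.inv hb
  have ht' := ht.conj hs.mem
  have hne : fx t ≠ fx (s * t * s⁻¹) := fun h => hnc (by
    have h' : t = s * t * s⁻¹ := ht.eq_of_fx hb h2 ht' h
    conv_rhs => rw [h']
    rw [inv_mul_cancel_right])
  have hA : ∀ a ∈ fx s ⊓ rg t, (s * t * s⁻¹) a = -a := by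
    intro a ha
    rw [hinv, mul_app, mul_app, mem_fx.1 ha.1, app_rg_neg (ht.sq hb) ha.2, map_neg,
      mem_fx.1 ha.1]
  have hM : ∀ m ∈ fx s ⊓ rg t, -m = m :=
    ht.three hb (B := fx (s * t * s⁻¹)) (fun h => hne (ht'.fx_eq_of_le ht h).symm)
      (fx s ⊓ rg t : Submodule _ V) (fun m => -m)
      (fun m hm => ⟨t, ht.mem, app_rg_neg (ht.sq hb) hm.2⟩)
      (fun a ha m hm => ⟨t, ht.mem, by rw [map_sub, mem_fx.1 ha, app_rg_neg (ht.sq hb) hm.2]⟩)
      (fun a ha m hm => ⟨_, ht'.mem, by rw [map_sub, mem_fx.1 ha, hA m hm]⟩)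
      (fun m hm n hn => ⟨t, ht.mem, by
        rw [map_sub, app_rg_neg (ht.sq hb) hm.2, app_rg_neg (ht.sq hb) hn.2]⟩)
  exact eq_bot_iff.2 fun m hm => neg_cancel' h2 (hM m hm)

/-- Distinct axes have disjoint roots, in odd characteristic. -/
theorem IsAxis.rg_inf_rg (hb : Bin G) (h2 : p ≠ 2) (hs : IsAxis G s) (ht : IsAxis G t)
    (hne : s ≠ t) : rg s ⊓ rg t = ⊥ := by
  refine eq_bot_iff.2 fun v hv => ?_
  rw [Submodule.mem_bot]
  by_cases hc : s * t = t * s
  · have h := hs.rg_le_fx hb ht hc (fun h => hne (hs.eq_of_fx hb h2 ht h)) hv.1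
    have h' : v ∈ fx t ⊓ rg t := ⟨h, hv.2⟩
    rwa [hb.fx_inf_rg h2 ht.mem, Submodule.mem_bot] at h'
  · have h : v ∈ fx (s * t) := by
      rw [mem_fx, mul_app, app_rg_neg (ht.sq hb) hv.2, map_neg, app_rg_neg (hs.sq hb) hv.1, neg_neg]
    rw [hs.fx_mul hb ht hc] at h
    have h' : v ∈ fx s ⊓ rg s := ⟨h.1, hv.1⟩
    rwa [hb.fx_inf_rg h2 hs.mem, Submodule.mem_bot] at h'

/-- The product of two commuting axes fixes only vectors fixed by each, in characteristic two. -/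
theorem IsAxis.fx_mul_le_two (hb : Bin G) (hs : IsAxis G s) {z : V ≃ₗ[ZMod p] V}
    (hz : IsAxis G z) (hne : fx s ≠ fx z) : fx (s * z) ≤ fx s := by
  by_contra hnot
  have e := hs.three hb hnot (fx z : Set V) s
    (fun c _ => ⟨s, hs.mem, rfl⟩)
    (fun a ha c _ => ⟨s, hs.mem, by rw [map_sub, mem_fx.1 ha]⟩)
    (fun a ha c hc => ⟨s * z, mul_mem hs.mem hz.mem, by
      rw [map_sub, mem_fx.1 ha, mul_app, mem_fx.1 hc]⟩)
    (fun c _ d _ => ⟨s, hs.mem, map_sub s c d⟩)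
  exact hne (hz.fx_eq_of_le hs fun x hx => mem_fx.2 (e x hx)).symm

theorem mul_pow_rev {M : Type*} [Group M] {a b : M} (ha : a * a = 1) (hb : b * b = 1) (k : ℕ) :
    a * (a * b) ^ k = ((a * b) ^ k)⁻¹ * a := by
  have h1 : a * (a * b) * a⁻¹ = (a * b)⁻¹ := by
    rw [mul_inv_rev, inv_eq_of_mul_eq_one_right ha, inv_eq_of_mul_eq_one_right hb, ← mul_assoc, ha,
      one_mul]
  have h2 := conj_pow (i := k) (a := a) (b := a * b)
  rw [h1, inv_pow, eq_comm, mul_inv_eq_iff_eq_mul] at h2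
  exact h2

/-- In a dihedral group of twice odd order the two generators are exchanged by a reflection. -/
theorem dihedral_conj {M : Type*} [Group M] {a b : M} (ha : a * a = 1) (hb : b * b = 1)
    (ho : Odd (orderOf (a * b))) :
    ∃ k : ℕ, a * (a * b) ^ k * a * (a * (a * b) ^ k)⁻¹ = b := by
  obtain ⟨k, hk⟩ := ho
  refine ⟨k + 1, ?_⟩
  have h1 : (a * b) ^ (k + 1) * (a * b) ^ (k + 1) = a * b := by
    rw [← pow_add, show k + 1 + (k + 1) = orderOf (a * b) + 1 by omega, pow_succ,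
      pow_orderOf_eq_one, one_mul]
  have h2 : a * (a * b) ^ (k + 1) * (a * (a * b) ^ (k + 1)) = 1 := by
    nth_rw 1 [mul_pow_rev ha hb]
    rw [mul_assoc, ← mul_assoc a a, ha, one_mul, inv_mul_cancel]
  rw [inv_eq_of_mul_eq_one_right h2]
  calc a * (a * b) ^ (k + 1) * a * (a * (a * b) ^ (k + 1))
      = a * ((a * b) ^ (k + 1) * (a * a) * (a * b) ^ (k + 1)) := by simp only [mul_assoc]
    _ = b := by rw [ha, mul_one, h1, ← mul_assoc, ha, one_mul]

/-- `a * (a * b) ^ j` is conjugate to `a` or to `b`. -/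
theorem mul_pow_conj {M : Type*} [Group M] {a b : M} (ha : a * a = 1) (hb : b * b = 1) (j : ℕ) :
    ∃ k : ℕ, a * (a * b) ^ j = ((a * b) ^ k)⁻¹ * a * (a * b) ^ k ∨
      a * (a * b) ^ j = ((a * b) ^ k)⁻¹ * b * (a * b) ^ k := by
  have hrev := mul_pow_rev ha hb
  obtain ⟨k, rfl | rfl⟩ := Nat.even_or_odd' j
  · refine ⟨k, Or.inl ?_⟩
    rw [two_mul, pow_add, ← mul_assoc, hrev]
  · refine ⟨k, Or.inr ?_⟩
    rw [show 2 * k + 1 = k + (1 + k) by omega, pow_add, pow_add, pow_one, ← mul_assoc, hrev,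
      mul_assoc _ a, ← mul_assoc a, ← mul_assoc a, ha, one_mul, mul_assoc]

theorem IsAxis.mul_pow (hb : Bin G) {a b : V ≃ₗ[ZMod p] V} (ha : IsAxis G a) (hb' : IsAxis G b)
    (j : ℕ) : IsAxis G (a * (a * b) ^ j) := by
  obtain ⟨k, h | h⟩ := mul_pow_conj (ha.sq hb) (hb'.sq hb) j <;> rw [h]
  · simpa using ha.conj (inv_mem (pow_mem (mul_mem ha.mem hb'.mem) k))
  · simpa using hb'.conj (inv_mem (pow_mem (mul_mem ha.mem hb'.mem) k))

/-- Two noncommuting axes generate a dihedral group of twice odd order in characteristic two. -/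
theorem IsAxis.odd_order (hb : Bin G) (h2 : p = 2) {a b : V ≃ₗ[ZMod p] V} (ha : IsAxis G a)
    (hb' : IsAxis G b) (hnc : a * b ≠ b * a) : Odd (orderOf (a * b)) := by
  by_contra hodd
  obtain ⟨m, hm⟩ := Nat.not_odd_iff_even.1 hodd
  have hpos : 0 < orderOf (a * b) := orderOf_pos _
  set w := (a * b) ^ m with hw
  have hw1 : w ≠ 1 := fun h => by
    have := orderOf_le_of_pow_eq_one (by omega : 0 < m) h
    omega
  have hw2 : w * w = 1 := by rw [hw, ← pow_add, ← hm, pow_orderOf_eq_one]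
  have hwG : w ∈ G := pow_mem (mul_mem ha.mem hb'.mem) m
  have hwba : (b * a) ^ m = w := by
    have : b * a = (a * b)⁻¹ := by rw [mul_inv_rev, ha.inv hb, hb'.inv hb]
    rw [this, inv_pow, ← hw, inv_of_sq hw2]
  have main : ∀ c d : V ≃ₗ[ZMod p] V, IsAxis G c → IsAxis G d → (c * d) ^ m = w →
      fx w ≤ fx c ∧ rg c ≤ fx w := by
    intro c d hc hd hcd
    have hax : IsAxis G (c * w) := hcd ▸ hc.mul_pow hb hd m
    have hcomm : c * w = w * c := comm_of_sq (hc.sq hb) hw2 (hax.sq hb)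
    constructor
    · by_cases heq : fx c = fx (c * w)
      · have hle : fx c ≤ fx w := by
          intro x hx
          have := mem_fx_mul hx (heq ▸ hx : x ∈ fx (c * w))
          rwa [← mul_assoc, hc.sq hb, one_mul] at this
        exact (hc.max w hwG hw1 hle).le
      · have hc' : c * (c * w) = c * w * c := by rw [mul_assoc, ← hcomm]
        have := hc.fx_mul_le_two hb hax heq
        rwa [← mul_assoc, hc.sq hb, one_mul] at this
    · exact fun v hv =>
        mem_fx.2 (hb.fix_of_comm hc.mem hwG hcomm.symm (hc.rg_le_fx_two hb h2 hv) hv)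
  obtain ⟨ha1, ha2⟩ := main a b ha hb' rfl
  obtain ⟨hb1, hb2⟩ := main b a hb' ha hwba
  refine hnc (LinearEquiv.ext fun v => ?_)
  have e1 : a (b v - v) = b v - v := mem_fx.1 (ha1 (hb2 (sub_mem_rg b v)))
  have e2 : b (a v - v) = a v - v := mem_fx.1 (hb1 (ha2 (sub_mem_rg a v)))
  rw [map_sub, sub_eq_iff_eq_add] at e1 e2
  rw [mul_app, mul_app, e1, e2]
  abel

/-- In characteristic two, the reflection exchanging two noncommuting axes. -/
theorem IsAxis.exists_reflect (hb : Bin G) (h2 : p = 2) {a b : V ≃ₗ[ZMod p] V} (ha : IsAxis G a)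
    (hb' : IsAxis G b) (hnc : a * b ≠ b * a) :
    ∃ x, IsAxis G x ∧ fx a ⊓ fx b ≤ fx x ∧ x * a * x⁻¹ = b := by
  obtain ⟨k, hk⟩ := dihedral_conj (ha.sq hb) (hb'.sq hb) (ha.odd_order hb h2 hb' hnc)
  refine ⟨a * (a * b) ^ k, ha.mul_pow hb hb' _, le_fx_mul inf_le_left ?_, hk⟩
  exact le_fx_pow (le_fx_mul inf_le_left inf_le_right) k

end Cfsg.Agent.LocalEven61.Binary
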