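import Cfsg.Agent.LocalEven61.Binary.Pair

/-!
Counting for the axes fixing the common fixed space of two noncommuting axes.
-/

set_option autoImplicit false
set_option linter.unusedSectionVars false
set_option linter.style.haveILetI false

namespace Cfsg.Agent.LocalEven61.Binary

open Module

variable {p : ℕ} {V : Type*} [AddCommGroup V] [Module (ZMod p) V]
variable {G : Subgroup (V ≃ₗ[ZMod p] V)} {g h s t m n a : V ≃ₗ[ZMod p] V} {u v : V}
variable [hp : Fact p.Prime] [Finite V]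

theorem ncard_ne_zero (X : Submodule (ZMod p) V) :
    {v : V | v ∈ X ∧ v ≠ 0}.ncard = p ^ finrank (ZMod p) X - 1 := by
  have : {v : V | v ∈ X ∧ v ≠ 0} = (X : Set V) \ {0} := by ext v; simp
  rw [this, Set.ncard_sdiff_singleton_of_mem X.zero_mem, ← Nat.card_coe_set_eq,
    ← natCard_submodule X]
  rfl

/-- Counting a covering by pairwise disjoint subspaces of the same dimension. -/
theorem count_cover {ι : Type*} [Finite ι] (R : ι → Submodule (ZMod p) V)
    (L : Submodule (ZMod p) V) (r : ℕ) (hle : ∀ i, R i ≤ L)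
    (hr : ∀ i, finrank (ZMod p) (R i) = r) (hdisj : ∀ i j, i ≠ j → R i ⊓ R j = ⊥)
    (hcov : ∀ v ∈ L, v ≠ 0 → ∃ i, v ∈ R i) :
    Nat.card ι * (p ^ r - 1) = p ^ finrank (ZMod p) L - 1 := by
  classical
  letI := Fintype.ofFinite ι
  have hb : Function.Bijective (fun x : Σ i : ι, {v : V | v ∈ R i ∧ v ≠ 0} =>
      (⟨x.2.1, hle x.1 x.2.2.1, x.2.2.2⟩ : {v : V | v ∈ L ∧ v ≠ 0})) := by
    refine ⟨?_, fun ⟨v, hv⟩ => ?_⟩
    · rintro ⟨i, v, hv⟩ ⟨j, w, hw⟩ h
      have e : v = w := congrArg Subtype.val h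
      subst e
      have hij : i = j := by
        by_contra hne
        have : v ∈ R i ⊓ R j := ⟨hv.1, hw.1⟩
        rw [hdisj i j hne, Submodule.mem_bot] at this
        exact hv.2 this
      subst hij; rfl
    · obtain ⟨i, hi⟩ := hcov v hv.1 hv.2
      exact ⟨⟨i, v, hi, hv.2⟩, rfl⟩
  have := Nat.card_eq_of_bijective _ hb
  rw [Nat.card_sigma] at this
  simp only [Nat.card_coe_set_eq, ncard_ne_zero, hr] at this
  rw [← this, Finset.sum_const, Finset.card_univ, smul_eq_mul, Nat.card_eq_fintype_card]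

/-- A disjoint family with the right count covers. -/
theorem cover_of_count {ι : Type*} [Finite ι] (R : ι → Submodule (ZMod p) V)
    (L : Submodule (ZMod p) V) (r : ℕ) (hle : ∀ i, R i ≤ L)
    (hr : ∀ i, finrank (ZMod p) (R i) = r) (hdisj : ∀ i j, i ≠ j → R i ⊓ R j = ⊥)
    (hcount : Nat.card ι * (p ^ r - 1) = p ^ finrank (ZMod p) L - 1) :
    ∀ v ∈ L, v ≠ 0 → ∃ i, v ∈ R i := by
  classical
  letI := Fintype.ofFinite ι
  intro v hv hv0
  let f : (Σ i : ι, {v : V | v ∈ R i ∧ v ≠ 0}) → {v : V | v ∈ L ∧ v ≠ 0} :=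
    fun x => ⟨x.2.1, hle x.1 x.2.2.1, x.2.2.2⟩
  have hinj : Function.Injective f := by
    rintro ⟨i, v, hv⟩ ⟨j, w, hw⟩ h
    have e : v = w := congrArg Subtype.val h
    subst e
    have hij : i = j := by
      by_contra hne
      have : v ∈ R i ⊓ R j := ⟨hv.1, hw.1⟩
      rw [hdisj i j hne, Submodule.mem_bot] at this
      exact hv.2 this
    subst hij; rfl
  have hb : Function.Bijective f := by
    refine (Nat.bijective_iff_injective_and_card f).2 ⟨hinj, ?_⟩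
    rw [Nat.card_sigma]
    simp only [Nat.card_coe_set_eq, ncard_ne_zero, hr]
    rw [← hcount, Finset.sum_const, Finset.card_univ, smul_eq_mul, Nat.card_eq_fintype_card]
  obtain ⟨⟨i, w, hw⟩, hx⟩ := hb.2 ⟨v, hv, hv0⟩
  have e : w = v := congrArg Subtype.val hx
  exact ⟨i, e ▸ hw.1⟩

theorem sq_sub_one (q : ℕ) : q ^ 2 - 1 = (q + 1) * (q - 1) := by
  have := Nat.sq_sub_sq q 1
  simpa using this

theorem IsAxis.rk_pos (hs : IsAxis G s) : 0 < rk s := finrank_pos_of_ne_bot hs.rg_ne_bot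

theorem one_lt_pow_rk (hs : IsAxis G s) : 1 < p ^ rk s :=
  Nat.one_lt_pow hs.rk_pos.ne' hp.out.one_lt

section
variable (hb : Bin G) (hq : Pair G s t)
include hb hq

theorem Pair.finrank_fx_inf_plane (hm : InC G s t m) :
    finrank (ZMod p) ↥(fx m ⊓ rg (s * t)) = rk s := by
  have h1 : fx m = fx s ⊓ fx t ⊔ fx m ⊓ rg (s * t) := by
    rw [inf_comm (fx m), ← sup_inf_assoc_of_le _ hm.2, hq.sup_plane hb, top_inf_eq]
  have hd : (fx s ⊓ fx t) ⊓ (fx m ⊓ rg (s * t)) = ⊥ :=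
    eq_bot_iff.2 fun v hv => (hq.inf_plane hb).le ⟨hv.1, hv.2.2⟩
  have h2 := finrank_sup_of_disjoint hd
  rw [← h1] at h2
  have h3 := finrank_fx_add_rg m
  have h4 := hq.finrank_X hb
  have h5 := hq.rk_of_inC hb hm
  unfold rk at h4 h5 ⊢
  omega

theorem Pair.fx_plane_disj (hm : InC G s t m) (hn : InC G s t n) (hne : m ≠ n) :
    (fx m ⊓ rg (s * t)) ⊓ (fx n ⊓ rg (s * t)) = ⊥ := by
  refine eq_bot_iff.2 fun v hv => ?_
  rw [← hq.inf_plane hb]
  exact ⟨hq.inf_eq hb hm hn (fun h => hne (hq.eq_of_fx hb hm hn h)) ▸ ⟨hv.1.1, hv.2.1⟩, hv.1.2⟩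

theorem Pair.natCard_inC : Nat.card {m // InC G s t m} = p ^ rk s + 1 := by
  have h := count_cover (fun m : {m // InC G s t m} => fx m.1 ⊓ rg (s * t)) (rg (s * t)) (rk s)
    (fun m => inf_le_right) (fun m => hq.finrank_fx_inf_plane hb m.2)
    (fun i j hne => hq.fx_plane_disj hb i.2 j.2 fun h => hne (Subtype.ext h))
    (fun v hv _ => by
      obtain ⟨m, hm, hvm⟩ := hq.cover hb v
      exact ⟨⟨m, hm⟩, hvm, hv⟩)
  rw [hq.finrank_plane hb, mul_comm 2, pow_mul, sq_sub_one] at h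
  have := one_lt_pow_rk hq.left
  exact Nat.eq_of_mul_eq_mul_right (by omega) h

theorem Pair.natCard_grpA : Nat.card (grpA G s t) = p ^ rk s + 1 := by
  rw [← hq.natCard_inC hb]
  refine Nat.card_congr
    { toFun := fun a => ⟨a.1 * s, hq.mul_inC hb a.2 hq.inC_left⟩
      invFun := fun m => ⟨m.1 * s, hq.mul_mem_grpA hb m.2 hq.inC_left⟩
      left_inv := fun a => Subtype.ext ?_
      right_inv := fun m => Subtype.ext ?_ } <;>
  simp only [mul_assoc, hq.left.sq hb, mul_one]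

theorem Pair.rg_inf (hm : InC G s t m) (hn : InC G s t n) (hne : m ≠ n) : rg m ⊓ rg n = ⊥ := by
  rcases eq_or_ne p 2 with h2 | h2
  · refine eq_bot_iff.2 fun v hv => ?_
    rw [← hq.fx_plane_disj hb hm hn hne]
    exact ⟨⟨hm.1.rg_le_fx_two hb h2 hv.1, hq.rg_le_plane hb hm hv.1⟩,
      hn.1.rg_le_fx_two hb h2 hv.2, hq.rg_le_plane hb hn hv.2⟩
  · exact hm.1.rg_inf_rg hb h2 hn.1 hne

theorem Pair.root_cover (hv : v ∈ rg (s * t)) (hv0 : v ≠ 0) : ∃ m, InC G s t m ∧ v ∈ rg m := by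
  obtain ⟨⟨m, hm⟩, hvm⟩ := cover_of_count (fun m : {m // InC G s t m} => rg m.1) (rg (s * t))
    (rk s) (fun m => hq.rg_le_plane hb m.2) (fun m => hq.rk_of_inC hb m.2)
    (fun i j hne => hq.rg_inf hb i.2 j.2 fun h => hne (Subtype.ext h))
    (by rw [hq.natCard_inC hb, hq.finrank_plane hb, mul_comm 2, pow_mul, sq_sub_one]) v hv hv0
  exact ⟨m, hm, hvm⟩

theorem Pair.sup_rg (hm : InC G s t m) (hn : InC G s t n) (hne : m ≠ n) :
    rg m ⊔ rg n = rg (s * t) := by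
  refine Submodule.eq_of_le_of_finrank_le (sup_le (hq.rg_le_plane hb hm) (hq.rg_le_plane hb hn)) ?_
  rw [finrank_sup_of_disjoint (hq.rg_inf hb hm hn hne), hq.finrank_plane hb]
  have h1 := hq.rk_of_inC hb hm
  have h2 := hq.rk_of_inC hb hn
  unfold rk at h1 h2 ⊢
  omega

theorem Pair.plane_of (hm : InC G s t m) (hn : InC G s t n) (hmn : Pair G m n) :
    rg (m * n) = rg (s * t) := by
  rw [← hmn.plane_eq hb, hq.sup_rg hb hm hn hmn.ne]

theorem Pair.inC_iff (hm : InC G s t m) (hn : InC G s t n) (hmn : Pair G m n)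
    (k : V ≃ₗ[ZMod p] V) : InC G m n k ↔ InC G s t k := by
  rw [InC, InC, hq.X_eq_of hb hm hn hmn]

/-- The plane has no proper nonzero invariant subspace. -/
theorem Pair.eq_plane_of_invariant {Y : Submodule (ZMod p) V} (hY : Y ≤ rg (s * t)) (hY0 : Y ≠ ⊥)
    (hinv : ∀ a ∈ grpA G s t, ∀ v ∈ Y, a v ∈ Y) : Y = rg (s * t) := by
  classical
  refine Submodule.eq_of_le_of_finrank_le hY ?_
  have hsmul : ∀ (a : grpA G s t) (x : {v : V | v ∈ Y ∧ v ≠ 0}),
      (a : V ≃ₗ[ZMod p] V) x.1 ∈ {v : V | v ∈ Y ∧ v ≠ 0} := fun a x =>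
    ⟨hinv a.1 a.2 x.1 x.2.1, fun h => x.2.2 ((LinearEquiv.map_eq_zero_iff _).1 h)⟩
  letI : MulAction (grpA G s t) {v : V | v ∈ Y ∧ v ≠ 0} :=
    { smul := fun a x => ⟨_, hsmul a x⟩
      one_smul := fun x => Subtype.ext rfl
      mul_smul := fun a b x => Subtype.ext rfl }
  have hfree : ∀ x : {v : V | v ∈ Y ∧ v ≠ 0}, MulAction.stabilizer (grpA G s t) x = ⊥ := by
    intro x
    refine eq_bot_iff.2 fun a ha => Subgroup.mem_bot.2 (Subtype.ext ?_)
    have hax : (a : V ≃ₗ[ZMod p] V) x.1 = x.1 :=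
      congrArg Subtype.val (MulAction.mem_stabilizer_iff.1 ha)
    refine hq.semiregular hb a.2 (fun h => x.2.2 ?_) hax
    have : x.1 ∈ fx s ⊓ fx t ⊓ rg (s * t) := ⟨h, hY x.2.1⟩
    rwa [hq.inf_plane hb, Submodule.mem_bot] at this
  have hdvd : p ^ rk s + 1 ∣ p ^ finrank (ZMod p) Y - 1 := by
    rw [← ncard_ne_zero Y, ← Nat.card_coe_set_eq, ← hq.natCard_grpA hb,
      Nat.card_congr (MulAction.selfEquivOrbitsQuotientProd hfree), Nat.card_prod]
    exact Dvd.intro_left _ rfl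
  have hj0 := finrank_pos_of_ne_bot hY0
  rw [hq.finrank_plane hb]
  by_contra hlt
  set r := rk s with hr
  set j := finrank (ZMod p) Y with hj
  have hpos : 1 < p ^ j := Nat.one_lt_pow hj0.ne' hp.out.one_lt
  by_cases hjr : j ≤ r
  · have h1 := Nat.le_of_dvd (by omega) hdvd
    have h2 := Nat.pow_le_pow_right hp.out.pos hjr
    omega
  · obtain ⟨k, hk⟩ := Nat.exists_eq_add_of_lt (Nat.lt_of_not_le hjr)
    have hm : p ^ (k + 1) < p ^ r := Nat.pow_lt_pow_right hp.out.one_lt (by omega)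
    have h1 : p ^ j = p ^ r * p ^ (k + 1) := by rw [← pow_add, hk, add_assoc]
    have h2 : p ^ r + 1 ∣ (p ^ r + 1) * p ^ (k + 1) - (p ^ j - 1) :=
      Nat.dvd_sub (Dvd.intro _ rfl) hdvd
    have h3 : (p ^ r + 1) * p ^ (k + 1) - (p ^ j - 1) = p ^ (k + 1) + 1 := by
      rw [add_mul, one_mul, h1]; omega
    rw [h3] at h2
    have := Nat.le_of_dvd (by omega) h2
    omega

end

end Cfsg.Agent.LocalEven61.Binary
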