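import Cfsg.Agent.LocalEven61.Binary.Apart

/-!
Classification of irreducible binary linear groups: at most two elements on a line, or the
anisotropic plane orthogonal group over a subfield of index two.
-/

set_option autoImplicit false
set_option linter.unusedSectionVars false
set_option linter.style.haveILetI false

namespace Cfsg.Agent.LocalEven61.Binary

open Module

variable {p : ℕ} {V : Type*} [AddCommGroup V] [Module (ZMod p) V]
variable {G : Subgroup (V ≃ₗ[ZMod p] V)} {g h s t : V ≃ₗ[ZMod p] V} {u v : V}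

/-- `G` stabilises no proper nonzero subspace. -/
def Irred (G : Subgroup (V ≃ₗ[ZMod p] V)) : Prop :=
  ∀ Y : Submodule (ZMod p) V, (∀ g ∈ G, ∀ v ∈ Y, g v ∈ Y) → Y = ⊥ ∨ Y = ⊤

variable [hp : Fact p.Prime] [Finite V]

theorem regular_case (hb : Bin G) (hirr : Irred G) {v₀ : V} (hv₀ : v₀ ≠ 0)
    (hreg : ∀ g ∈ G, g v₀ = v₀ → g = 1) : Nat.card G ≤ 2 ∧ finrank (ZMod p) V = 1 := by
  classical
  have hsq : ∀ g ∈ G, g * g = 1 := fun g hg =>
    hb.sq_of_regular (X := (∅ : Set V)) v₀ (fun k hk _ => hreg k hk) hg (by simp)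
  have hneg : ∀ g ∈ G, g ≠ 1 → ∀ v, g v = -v := by
    intro g hg hg1 v
    rcases hirr (fx g) (fun k hk w hw =>
      comm_fx (comm_of_sq (hsq k hk) (hsq g hg) (hsq _ (mul_mem hk hg))) hw) with h | h
    · refine eq_neg_of_add_eq_zero_left ?_
      have hw : g v + v ∈ fx g := by
        rw [mem_fx, map_add, ← mul_app, hsq g hg, one_app, add_comm]
      rwa [h, Submodule.mem_bot] at hw
    · exact absurd (fx_eq_top.1 h) hg1
  constructor
  · have hinj : Function.Injective (fun g : G => decide (g.1 = 1)) := by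
      intro a b hab
      simp only [decide_eq_decide] at hab
      apply Subtype.ext
      by_cases ha : a.1 = 1
      · rw [ha, hab.1 ha]
      · exact LinearEquiv.ext fun v => by
          rw [hneg a.1 a.2 ha, hneg b.1 b.2 fun h => ha (hab.2 h)]
    simpa using Nat.card_le_card_of_injective _ hinj
  · rcases hirr (Submodule.span (ZMod p) {v₀}) (fun g hg w hw => by
      by_cases h1 : g = 1
      · subst h1; exact hw
      · rw [hneg g hg h1]; exact Submodule.neg_mem _ hw) with h | h
    · exact absurd (Submodule.span_singleton_eq_bot.1 h) hv₀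
    · rw [← finrank_top (ZMod p) V, ← h, finrank_span_singleton hv₀]

theorem exists_pair [Nontrivial V] (hb : Bin G) (hirr : Irred G)
    (hfix : ∀ v : V, v ≠ 0 → ∃ g ∈ G, g ≠ 1 ∧ g v = v) : ∃ s t, Pair G s t := by
  classical
  by_contra! hno
  have hc : ∀ s t, IsAxis G s → IsAxis G t → s * t = t * s := fun s t hs ht =>
    by_contra fun h => hno s t ⟨hs, ht, h⟩
  obtain ⟨v₀, hv₀⟩ := exists_ne (0 : V)
  obtain ⟨g₀, hg₀, hg₀1, -⟩ := hfix v₀ hv₀
  obtain ⟨s₀, hs₀, -⟩ := exists_axis hg₀ hg₀1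
  rcases eq_or_ne p 2 with h2 | h2
  · let Y : Submodule (ZMod p) V :=
      { carrier := {v | ∀ t, IsAxis G t → t v = v}
        zero_mem' := fun t _ => map_zero t
        add_mem' := fun ha hb t ht => by rw [map_add, ha t ht, hb t ht]
        smul_mem' := fun c x hx t ht => by rw [map_smul, hx t ht] }
    have hY : rg s₀ ≤ Y := fun v hv t ht => by
      by_cases he : fx s₀ = fx t
      · exact mem_fx.1 (he ▸ hs₀.rg_le_fx_two hb h2 hv)
      · exact mem_fx.1 (hs₀.rg_le_fx hb ht (hc s₀ t hs₀ ht) he hv)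
    rcases hirr Y (fun g hg w hw t ht => by
        have h := hw _ (ht.conj (inv_mem hg))
        rw [mul_app, mul_app, inv_inv] at h
        conv_rhs => rw [← h]
        rw [app_inv_app]) with h | h
    · exact hs₀.rg_ne_bot (eq_bot_iff.2 (h ▸ hY))
    · exact hs₀.ne_one (LinearEquiv.ext fun v =>
        (show v ∈ Y by rw [h]; trivial) s₀ hs₀)
  · letI := Fintype.ofFinite {j : V ≃ₗ[ZMod p] V // IsAxis G j}
    choose r hr hr0 using fun j : {j : V ≃ₗ[ZMod p] V // IsAxis G j} =>
      Submodule.exists_mem_ne_zero_of_ne_bot j.2.rg_ne_bot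
    set w := ∑ j, r j with hw
    have hjw : ∀ j : {j : V ≃ₗ[ZMod p] V // IsAxis G j}, j.1 w = w - r j - r j := by
      intro j
      have h1 : ∀ k, j.1 (r k) = r k + if k = j then -r j - r j else 0 := by
        intro k
        by_cases hk : k = j
        · subst hk
          rw [if_pos rfl, app_rg_neg (k.2.sq hb) (hr k)]; abel
        · rw [if_neg hk, add_zero]
          exact mem_fx.1 (k.2.rg_le_fx hb j.2 (hc _ _ k.2 j.2)
            (fun h => hk (Subtype.ext (k.2.eq_of_fx hb h2 j.2 h))) (hr k))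
      rw [hw, map_sum, Finset.sum_congr rfl fun k _ => h1 k, Finset.sum_add_distrib,
        Finset.sum_ite_eq' Finset.univ j, if_pos (Finset.mem_univ j)]
      abel
    have hmove : ∀ j : {j : V ≃ₗ[ZMod p] V // IsAxis G j}, j.1 w ≠ w := by
      intro j he
      rw [hjw, sub_sub, sub_eq_self] at he
      exact hr0 j (two_cancel h2 he)
    have hw0 : w ≠ 0 := fun h => hmove ⟨s₀, hs₀⟩ (by rw [h, map_zero])
    obtain ⟨g, hg, hg1, hgw⟩ := hfix w hw0
    obtain ⟨j, hj, hle⟩ := exists_axis hg hg1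
    exact hmove ⟨j, hj⟩ (mem_fx.1 (hle (mem_fx.2 hgw)))

/-- The subalgebra of endomorphisms generated by the group of a pair. -/
def algA (G : Subgroup (V ≃ₗ[ZMod p] V)) (s t : V ≃ₗ[ZMod p] V) :
    Subalgebra (ZMod p) (Module.End (ZMod p) V) :=
  Algebra.adjoin (ZMod p) ((fun a : V ≃ₗ[ZMod p] V => (a : Module.End (ZMod p) V)) '' grpA G s t)

theorem field_case (hb : Bin G) (hq : Pair G s t) (hX : fx s ⊓ fx t = ⊥) :
    ∃ (F E : Type) (_ : Field F) (_ : Fintype F) (_ : Field E) (_ : Fintype E) (_ : Algebra F E)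
      (θ : V ≃+ E), finrank F E = 2 ∧ ∀ f : V → V, (∃ g ∈ G, ∀ v, f v = g v) ↔
        ∃ (a : E) (φ : E ≃ₐ[F] E), Algebra.norm F a = 1 ∧ ∀ v, θ (f v) = a * φ (θ v) := by
  classical
  have hP : rg (s * t) = ⊤ := by
    have h := hq.sup_plane hb
    rwa [hX, bot_sup_eq] at h
  have hG : ∀ g ∈ G, g ∈ fixG G (fx s ⊓ fx t) := fun g hg => ⟨hg, by rw [hX]; exact bot_le⟩
  have hV : finrank (ZMod p) V = 2 * rk s := by
    have h := hq.finrank_X hb
    rw [hX, finrank_bot] at h
    omega
  set r := rk s with hr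
  have hr0 : r ≠ 0 := hq.left.rk_pos.ne'
  have hirrA : ∀ Y : Submodule (ZMod p) V, Y ≠ ⊥ → (∀ a ∈ grpA G s t, ∀ v ∈ Y, a v ∈ Y) → Y = ⊤ := by
    intro Y h0 hinv
    rw [hq.eq_plane_of_invariant hb (hP ▸ le_top) h0 hinv, hP]
  obtain ⟨v₀, hv₀, hv₀0⟩ : ∃ v ∈ fx s, v ≠ 0 := by
    refine Submodule.exists_mem_ne_zero_of_ne_bot fun h => ?_
    have h1 := hq.finrank_fx_inf_plane hb hq.inC_left
    rw [h, bot_inf_eq, finrank_bot] at h1
    exact hr0 h1.symm
  have hs₀ : s v₀ = v₀ := mem_fx.1 hv₀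
  let K := algA G s t
  have hgen : ∀ a ∈ grpA G s t, (a : Module.End (ZMod p) V) ∈ K :=
    fun a ha => Algebra.subset_adjoin ⟨a, ha, rfl⟩
  haveI hK : IsMulCommutative K := Algebra.isMulCommutative_adjoin (ZMod p) (by
    rintro _ ⟨a, ha, rfl⟩ _ ⟨b, hb', rfl⟩
    refine LinearMap.ext fun v => ?_
    exact LinearEquiv.congr_fun (hq.grpA_comm hb ha hb') v)
  letI : CommRing K :=
    { (inferInstance : Ring K) with mul_comm := fun a b => mul_comm' a b }
  haveI : Finite (Module.End (ZMod p) V) :=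
    Finite.of_injective (fun f => (f : V → V)) DFunLike.coe_injective
  haveI : Nontrivial K := ⟨⟨1, 0, fun h => hv₀0 (by
    have := congrArg (fun x : K => (x : Module.End (ZMod p) V) v₀) h
    simpa using this)⟩⟩
  have hcommK : ∀ (x : K) (a : V ≃ₗ[ZMod p] V), a ∈ grpA G s t → ∀ v,
      (x : Module.End (ZMod p) V) (a v) = a ((x : Module.End (ZMod p) V) v) := fun x a ha v => by
    have h := congrArg (fun y : K => (y : Module.End (ZMod p) V) v) (mul_comm x ⟨_, hgen a ha⟩)
    simpa using h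
  haveI : NoZeroDivisors K := ⟨fun {x y} hxy => by
    by_contra! h
    refine h.2 (Subtype.ext (LinearMap.ext fun v => ?_))
    have hker : LinearMap.ker (x : Module.End (ZMod p) V) = ⊥ := by
      by_contra hne
      refine h.1 (Subtype.ext (LinearMap.ker_eq_top.1 (hirrA _ hne fun a ha w hw => ?_)))
      rw [LinearMap.mem_ker] at hw ⊢
      rw [hcommK x a ha, hw, map_zero]
    have h' : (y : Module.End (ZMod p) V) v ∈ LinearMap.ker (x : Module.End (ZMod p) V) :=
      LinearMap.mem_ker.2 (LinearMap.congr_fun (congrArg Subtype.val hxy) v)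
    rw [hker, Submodule.mem_bot] at h'
    simpa using h'⟩
  haveI : IsDomain K := NoZeroDivisors.to_isDomain K
  letI : Field K := (Finite.isField_of_domain K).toField
  let ev : K →ₗ[ZMod p] V :=
    { toFun := fun x => (x : Module.End (ZMod p) V) v₀
      map_add' := fun _ _ => rfl
      map_smul' := fun _ _ => rfl }
  have hev_surj : Function.Surjective ev := by
    rw [← LinearMap.range_eq_top]
    refine hirrA _ (fun h => hv₀0 ?_) fun a ha w hw => ?_
    · have h1 : v₀ ∈ LinearMap.range ev := ⟨1, rfl⟩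
      rwa [h, Submodule.mem_bot] at h1
    · obtain ⟨x, rfl⟩ := hw
      exact ⟨⟨_, hgen a ha⟩ * x, rfl⟩
  have hev_inj : Function.Injective ev := by
    rw [← LinearMap.ker_eq_bot, eq_bot_iff]
    intro x hx
    rw [LinearMap.mem_ker] at hx
    rw [Submodule.mem_bot]
    refine Subtype.ext (LinearMap.ext fun v => ?_)
    obtain ⟨y, rfl⟩ := hev_surj v
    change ((x * y : K) : Module.End (ZMod p) V) v₀ = 0
    rw [mul_comm]
    change (y : Module.End (ZMod p) V) ((x : Module.End (ZMod p) V) v₀) = 0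
    rw [show (x : Module.End (ZMod p) V) v₀ = 0 from hx, map_zero]
  let evE : K ≃ₗ[ZMod p] V := LinearEquiv.ofBijective ev ⟨hev_inj, hev_surj⟩
  have hcard : Nat.card K = p ^ (2 * r) := by
    rw [Nat.card_congr evE.toEquiv, Module.natCard_eq_pow_finrank (K := ZMod p), Nat.card_zmod, hV]
  let ι : K ≃ₐ[ZMod p] GaloisField p (2 * r) := GaloisField.algEquivGaloisField p (2 * r) hcard
  haveI : Fintype (GaloisField p r) := Fintype.ofFinite _
  haveI : Fintype (GaloisField p (2 * r)) := Fintype.ofFinite _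
  obtain ⟨j⟩ := FiniteField.nonempty_algHom_of_finrank_dvd (F := ZMod p) (K := GaloisField p r)
    (L := GaloisField p (2 * r))
    (by rw [GaloisField.finrank p hr0, GaloisField.finrank p (by omega)]; exact Dvd.intro_left 2 rfl)
  letI : Algebra (GaloisField p r) (GaloisField p (2 * r)) := j.toRingHom.toAlgebra
  set q := p ^ r with hqdef
  have hq1 : 1 < q := Nat.one_lt_pow hr0 hp.out.one_lt
  have hF : Nat.card (GaloisField p r) = q := GaloisField.card p r hr0
  have hE : Nat.card (GaloisField p (2 * r)) = q ^ 2 := by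
    rw [GaloisField.card p _ (by omega), mul_comm, pow_mul]
  have hrk : finrank (GaloisField p r) (GaloisField p (2 * r)) = 2 := by
    have h := Module.natCard_eq_pow_finrank (K := GaloisField p r) (V := GaloisField p (2 * r))
    rw [hE, hF] at h
    exact (Nat.pow_right_injective hq1 h).symm
  have hnorm : ∀ a : GaloisField p (2 * r),
      Algebra.norm (GaloisField p r) a = 1 ↔ a ^ (q + 1) = 1 := by
    intro a
    rw [← (algebraMap (GaloisField p r) (GaloisField p (2 * r))).injective.eq_iff, map_one,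
      FiniteField.algebraMap_norm_eq_pow, hE, hF, sq_sub_one,
      Nat.mul_div_cancel _ (by omega : 0 < q - 1)]
  have hfrob : ∀ φ : GaloisField p (2 * r) ≃ₐ[GaloisField p r] GaloisField p (2 * r),
      (∀ x, φ x = x) ∨ ∀ x, φ x = x ^ q := by
    intro φ
    obtain ⟨⟨n, hn⟩, rfl⟩ := (FiniteField.bijective_frobeniusAlgEquivOfAlgebraic_pow
      (GaloisField p r) (GaloisField p (2 * r))).2 φ
    rw [hrk] at hn
    interval_cases n
    · exact Or.inl fun x => by simp
    · refine Or.inr fun x => ?_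
      simp only [pow_one]
      rw [FiniteField.coe_frobeniusAlgEquivOfAlgebraic, Fintype.card_eq_nat_card, hF]
  -- the generators
  have hone : ∀ (a : V ≃ₗ[ZMod p] V) (ha : a ∈ grpA G s t),
      (⟨_, hgen a ha⟩ : K) ^ (q + 1) = 1 := by
    intro a ha
    have h : (⟨a, ha⟩ : grpA G s t) ^ (q + 1) = 1 := by
      rw [hqdef, ← hq.natCard_grpA hb]; exact pow_card_eq_one'
    refine Subtype.ext (LinearMap.ext fun v => ?_)
    have h' : (a ^ (q + 1)) v = v := by
      rw [show a ^ (q + 1) = 1 from congrArg Subtype.val h]; rfl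
    rw [SubmonoidClass.coe_pow, Module.End.pow_apply]
    rw [LinearEquiv.pow_apply] at h'
    exact h'
  haveI : CharP K p := charP_of_injective_algebraMap (algebraMap (ZMod p) K).injective p
  have hconj : ∀ x : K, ∀ v, s ((x : Module.End (ZMod p) V) v) =
      ((x ^ q : K) : Module.End (ZMod p) V) (s v) := by
    rintro ⟨x, hx⟩
    induction hx using Algebra.adjoin_induction with
    | mem x hx =>
        obtain ⟨a, ha, rfl⟩ := hx
        intro v
        have h1 := hone a ha
        rw [pow_succ] at h1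
        have h2 : ((⟨_, hgen a ha⟩ : K) ^ q : K) = ⟨_, hgen a⁻¹ (inv_mem ha)⟩ := by
          refine mul_right_cancel₀ (b := (⟨_, hgen a ha⟩ : K)) (fun h => ?_) (h1.trans ?_)
          · exact hv₀0 ((LinearEquiv.map_eq_zero_iff a).1
              (LinearMap.congr_fun (congrArg Subtype.val h) v₀))
          · exact Subtype.ext (LinearMap.ext fun w => (inv_app_app a w).symm)
        change s (a v) = _
        rw [h2]
        change s (a v) = a⁻¹ (s v)
        rw [← hq.conj_inv hb ha hq.inC_left, mul_app, mul_app, ← mul_app s s, hq.left.sq hb,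
          one_app]
    | algebraMap c =>
        intro v
        have : ((⟨algebraMap (ZMod p) _ c, Subalgebra.algebraMap_mem _ c⟩ : K) ^ q : K) =
            ⟨algebraMap (ZMod p) _ c, Subalgebra.algebraMap_mem _ c⟩ := by
          refine Subtype.ext ?_
          rw [SubmonoidClass.coe_pow, ← map_pow, hqdef, ZMod.pow_card_pow]
        rw [this]
        simp [Module.algebraMap_end_apply, map_smul]
    | add x y hx hy ihx ihy =>
        intro v
        have : ((⟨x + y, add_mem hx hy⟩ : K) ^ q : K) = (⟨x, hx⟩ : K) ^ q + (⟨y, hy⟩ : K) ^ q :=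
          add_pow_char_pow (⟨x, hx⟩ : K) ⟨y, hy⟩ p r
        rw [this]
        change s (x v + y v) = _
        rw [map_add, ihx v, ihy v]
        rfl
    | mul x y hx hy ihx ihy =>
        intro v
        have : ((⟨x * y, mul_mem hx hy⟩ : K) ^ q : K) = (⟨x, hx⟩ : K) ^ q * (⟨y, hy⟩ : K) ^ q :=
          mul_pow (⟨x, hx⟩ : K) ⟨y, hy⟩ q
        rw [this]
        change s (x (y v)) = _
        rw [ihx (y v), ihy v]
        rfl
  let θ : V ≃+ GaloisField p (2 * r) := evE.symm.toAddEquiv.trans ι.toAddEquiv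
  have hθ : ∀ x : K, θ ((x : Module.End (ZMod p) V) v₀) = ι x := fun x => by
    change ι (evE.symm (evE x)) = ι x
    rw [LinearEquiv.symm_apply_apply]
  have hθa : ∀ (a : V ≃ₗ[ZMod p] V) (ha : a ∈ grpA G s t) (v : V),
      θ (a v) = ι ⟨_, hgen a ha⟩ * θ v := by
    intro a ha v
    obtain ⟨x, rfl⟩ := hev_surj v
    change θ (((⟨_, hgen a ha⟩ * x : K) : Module.End (ZMod p) V) v₀) = _ * θ ((x : Module.End (ZMod p) V) v₀)
    rw [hθ, hθ, map_mul]
  have hθs : ∀ v, θ (s v) = θ v ^ q := by
    intro v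
    obtain ⟨x, rfl⟩ := hev_surj v
    change θ (s ((x : Module.End (ZMod p) V) v₀)) = θ ((x : Module.End (ZMod p) V) v₀) ^ q
    rw [hconj, hs₀, hθ, hθ, map_pow]
  have hroots : ∀ α : GaloisField p (2 * r), α ^ (q + 1) = 1 →
      ∃ a, ∃ ha : a ∈ grpA G s t, ι ⟨_, hgen a ha⟩ = α := by
    intro α hα
    let S : Set (GaloisField p (2 * r)) := {x | x ^ (q + 1) = 1}
    have hle : S.ncard ≤ q + 1 := by
      have : S = ↑(Polynomial.nthRoots (q + 1) (1 : GaloisField p (2 * r))).toFinset := by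
        ext x
        simp [S, Polynomial.mem_nthRoots (Nat.succ_pos q)]
      rw [this, Set.ncard_coe_finset]
      exact (Multiset.toFinset_card_le _).trans (Polynomial.card_nthRoots _ _)
    let T := Set.range fun a : grpA G s t => ι ⟨_, hgen a.1 a.2⟩
    have hT : T ⊆ S := by
      rintro _ ⟨a, rfl⟩
      change ι _ ^ (q + 1) = 1
      rw [← map_pow, hone a.1 a.2, map_one]
    have hTc : T.ncard = q + 1 := by
      rw [← Nat.card_coe_set_eq, Nat.card_range_of_injective, hq.natCard_grpA hb]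
      intro a b hab
      refine Subtype.ext (LinearEquiv.ext fun v => ?_)
      exact LinearMap.congr_fun (congrArg Subtype.val (ι.injective hab)) v
    have : α ∈ T := by
      rw [Set.eq_of_subset_of_ncard_le hT (hle.trans hTc.ge) (Set.toFinite _)]
      exact hα
    obtain ⟨a, ha⟩ := this
    exact ⟨a.1, a.2, ha⟩
  refine ⟨GaloisField p r, GaloisField p (2 * r), inferInstance, inferInstance, inferInstance,
    inferInstance, inferInstance, θ, hrk, fun f => ⟨?_, ?_⟩⟩
  · rintro ⟨g, hg, hf⟩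
    rcases hq.mem_or hb (hG g hg) with h | h
    · refine ⟨ι ⟨_, hgen g h⟩, AlgEquiv.refl, (hnorm _).2 ?_, fun v => ?_⟩
      · rw [← map_pow, hone g h, map_one]
      · rw [hf, hθa g h]; rfl
    · have hgs := hq.mul_mem_grpA hb h hq.inC_left
      refine ⟨ι ⟨_, hgen _ hgs⟩,
        FiniteField.frobeniusAlgEquivOfAlgebraic (GaloisField p r) (GaloisField p (2 * r)),
        (hnorm _).2 ?_, fun v => ?_⟩
      · rw [← map_pow, hone _ hgs, map_one]
      · rw [hf, FiniteField.coe_frobeniusAlgEquivOfAlgebraic, Fintype.card_eq_nat_card, hF]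
        change θ (g v) = _ * θ v ^ q
        rw [← hθs, ← hθa _ hgs, ← mul_app, mul_assoc, hq.left.sq hb, mul_one]
  · rintro ⟨α, φ, hα, hf⟩
    obtain ⟨a, ha, rfl⟩ := hroots α ((hnorm α).1 hα)
    rcases hfrob φ with hφ | hφ
    · exact ⟨a, ha.1.1, fun v => θ.injective (by rw [hf, hθa a ha, hφ])⟩
    · exact ⟨a * s, mul_mem ha.1.1 hq.left.mem, fun v => θ.injective (by
        rw [hf, hφ, mul_app, hθa a ha, hθs])⟩

/-- Irreducible linear groups with binary affine extension. -/
theorem classify [Nontrivial V] (hb : Bin G) (hirr : Irred G) :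
    (Nat.card G ≤ 2 ∧ finrank (ZMod p) V = 1) ∨
    ∃ (F E : Type) (_ : Field F) (_ : Fintype F) (_ : Field E) (_ : Fintype E) (_ : Algebra F E)
      (θ : V ≃+ E), finrank F E = 2 ∧ ∀ f : V → V, (∃ g ∈ G, ∀ v, f v = g v) ↔
        ∃ (a : E) (φ : E ≃ₐ[F] E), Algebra.norm F a = 1 ∧ ∀ v, θ (f v) = a * φ (θ v) := by
  by_cases hfix : ∀ v : V, v ≠ 0 → ∃ g ∈ G, g ≠ 1 ∧ g v = v
  · obtain ⟨s, t, hq⟩ := exists_pair hb hirr hfix
    exact Or.inr (field_case hb hq (hq.X_eq_bot hb hirr))
  · push Not at hfix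
    obtain ⟨v, hv, h⟩ := hfix
    exact Or.inl (regular_case hb hirr hv fun g hg e => by_contra fun h1 => h g hg h1 e)

end Cfsg.Agent.LocalEven61.Binary
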