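import Cfsg.Agent.LocalEven61.Binary.Count

/-!
No axis outside the block of a pair fails to commute with a member of the block.
-/

set_option autoImplicit false
set_option linter.unusedSectionVars false
set_option linter.style.haveILetI false

namespace Cfsg.Agent.LocalEven61.Binary

open Module

variable {p : ℕ} {V : Type*} [AddCommGroup V] [Module (ZMod p) V]
variable {G : Subgroup (V ≃ₗ[ZMod p] V)} {g h s t m n a b i : V ≃ₗ[ZMod p] V} {u v : V}
variable [hp : Fact p.Prime] [Finite V]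

section
variable (hb : Bin G) (hq : Pair G s t)
include hb hq

theorem Pair.plane_inf_rg (h2 : p ≠ 2) (ha : IsAxis G a) (haC : ¬ InC G s t a) :
    rg (s * t) ⊓ rg a = ⊥ := by
  refine eq_bot_iff.2 fun v hv => ?_
  rw [Submodule.mem_bot]
  by_contra hv0
  obtain ⟨j, hj, hvj⟩ := hq.root_cover hb hv.1 hv0
  have hne : a ≠ j := fun h => haC (h ▸ hj)
  have h : v ∈ rg a ⊓ rg j := ⟨hv.2, hvj⟩
  rw [ha.rg_inf_rg hb h2 hj.1 hne] at h
  exact hv0 h

/-- An axis outside the block has exactly one commuting member in it, if it is adjacent at all. -/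
theorem Pair.exists_commuting (ha : IsAxis G a) (haC : ¬ InC G s t a) (hb' : InC G s t b)
    (hab : Pair G a b) :
    ∃ i, InC G s t i ∧ a * i = i * a ∧ fx a ≠ fx i ∧ i ≠ b ∧
      ∀ j, InC G s t j → j ≠ i → Pair G a j := by
  have hr : rk a = rk s := by rw [← hab.rk_eq hb, hq.rk_of_inC hb hb']
  have hpos : fx a ⊓ rg (s * t) ≠ ⊥ := by
    intro h
    have h1 := finrank_sup_of_disjoint h
    have h2 := Submodule.finrank_le (fx a ⊔ rg (s * t))
    have h3 := finrank_fx_add_rg a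
    have h4 := hq.finrank_plane hb
    have h5 := hq.left.rk_pos
    unfold rk at hr h4 h5
    omega
  obtain ⟨u, hu, hu0⟩ := Submodule.exists_mem_ne_zero_of_ne_bot hpos
  obtain ⟨i, hi, hui⟩ := hq.root_cover hb hu.2 hu0
  have hne : ∀ j, InC G s t j → fx a ≠ fx j := fun j hj h => haC ⟨ha, h ▸ hj.2⟩
  have hc : a * i = i * a := by
    by_contra hc
    have h : u ∈ fx a ⊓ rg i := ⟨hu.1, hui⟩
    rw [(Pair.mk ha hi.1 hc).fx_inf_rg hb] at h
    exact hu0 h
  refine ⟨i, hi, hc, hne i hi, fun h => hab.nc (h ▸ hc), fun j hj hji => ⟨ha, hj.1, fun hc' => ?_⟩⟩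
  refine hb'.1.rg_ne_bot (eq_bot_iff.2 fun v hv => ?_)
  rw [← hab.fx_inf_rg hb]
  refine ⟨?_, hv⟩
  have hle : rg j ⊔ rg i ≤ fx a := sup_le (hj.1.rg_le_fx hb ha hc'.symm (hne j hj).symm)
    (hi.1.rg_le_fx hb ha hc.symm (hne i hi).symm)
  rw [hq.sup_rg hb hj hi hji] at hle
  exact hle (hq.rg_le_plane hb hb' hv)

theorem Pair.no_outside_two (h2 : p = 2) (ha : IsAxis G a) (haC : ¬ InC G s t a)
    (hb' : InC G s t b) (hab : Pair G a b) : False := by
  obtain ⟨i, hi, hc, hne, hib, -⟩ := hq.exists_commuting hb ha haC hb' hab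
  have hnc : i * b ≠ b * i := fun h => hib (hq.eq_of_fx hb hi hb' (hq.fx_of_comm_two hb h2 hi hb' h))
  obtain ⟨x, hx, hxX, hx'⟩ := hi.1.exists_reflect hb h2 hb'.1 hnc
  obtain ⟨y, hy, -, hy'⟩ := hb'.1.exists_reflect hb h2 ha hab.symm.nc
  have hxC : InC G s t x := ⟨hx, (le_inf hi.2 hb'.2).trans hxX⟩
  have hxi : x ≠ i := by
    rintro rfl
    exact hib (by rw [← hx', mul_inv_cancel_right])
  have hyb : Pair G y b := by
    refine ⟨hy, hb'.1, fun h => hab.ne ?_⟩
    rw [← hy', h, mul_inv_cancel_right]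
  have hex : ∃ v ∈ fx x ⊓ fx y, v ∉ fx i := by
    by_contra! hle
    refine haC ⟨ha, ?_⟩
    have hle' : fx x ⊓ fx y ≤ fx s ⊓ fx t := fun v hv =>
      hq.inf_eq hb hxC hi (fun h => hxi (hq.eq_of_fx hb hxC hi h)) ▸ ⟨hv.1, hle v hv⟩
    have heq : fx x ⊓ fx y = fx s ⊓ fx t := by
      refine Submodule.eq_of_le_of_finrank_le hle' ?_
      have h1 := Submodule.finrank_sup_add_finrank_inf_eq (fx x) (fx y)
      have h2 := Submodule.finrank_le (fx x ⊔ fx y)
      have h3 := finrank_fx_add_rg x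
      have h4 := finrank_fx_add_rg y
      have h5 := hq.rk_of_inC hb hxC
      have h6 : rk y = rk s := by rw [← hyb.rk_eq hb, hq.rk_of_inC hb hb']
      have h7 := hq.finrank_X hb
      unfold rk at h5 h6 h7
      omega
    intro v hv
    have hvy : y v = v := mem_fx.1 (show v ∈ fx y from (heq ▸ hv : v ∈ fx x ⊓ fx y).2)
    have hvy' : y⁻¹ v = v := by
      conv_lhs => rw [← hvy]
      rw [inv_app_app]
    rw [← hy', mem_fx_conj, hvy']
    exact hb'.2 hv
  obtain ⟨v, hv, hvi⟩ := hex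
  set k := y * x with hk
  have hkv : k v = v := by rw [hk, mul_app, mem_fx.1 hv.1, mem_fx.1 hv.2]
  have hki : k * i = a * k := by
    rw [hk, ← hy', ← hx']; group
  set w := i v - v with hw
  have hwi : w ∈ rg i := sub_mem_rg i v
  have hiw : i w = w := mem_fx.1 (hi.1.rg_le_fx_two hb h2 hwi)
  have haw : a w = w := mem_fx.1 (hi.1.rg_le_fx hb ha hc.symm hne.symm hwi)
  have hkw : k w = a v - v := by rw [hw, map_sub, ← mul_app k i, hki, mul_app, hkv]
  have hgv : (a * i) v - v = (a v - v) + w := by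
    rw [mul_app, show i v = v + w by rw [hw]; abel, map_add, haw]; abel
  have hkw' : k w = w := by
    refine hb.kill (mul_mem ha.mem hi.1.mem) (mul_mem hy.mem hx.mem) (c := w)
      (by rw [mul_app, hiw, haw]) ?_
    rw [hkw, sub_eq_add_neg, neg_two h2, ← hgv]
    exact sub_mem_rg _ _
  rw [← hkw, hkw', add_self_two h2, sub_eq_zero] at hgv
  refine hvi (hi.1.fx_mul_le_two hb ha hne.symm ?_)
  rw [← hc]; exact mem_fx.2 hgv

/-- Vectors of the span of a plane and an outside root are covered by roots. -/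
theorem Pair.cover_span (_ha : IsAxis G a) (hi : InC G s t i)
    (hadj : ∀ j, InC G s t j → j ≠ i → Pair G a j) (hu : u ∈ rg (s * t) ⊔ rg a)
    (hu' : u ∉ rg a ⊔ rg i) :
    ∃ l, IsAxis G l ∧ rg l ≤ rg (s * t) ⊔ rg a ∧ rk l = rk s ∧ u ∈ rg l := by
  obtain ⟨π, hπ, ρ, hρ, rfl⟩ := Submodule.mem_sup.1 hu
  have hπ0 : π ≠ 0 := fun h => hu' (by rw [h, zero_add]; exact Submodule.mem_sup_left hρ)
  obtain ⟨j, hj, hπj⟩ := hq.root_cover hb hπ hπ0
  have hji : j ≠ i := by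
    rintro rfl
    exact hu' (Submodule.add_mem _ (Submodule.mem_sup_right hπj) (Submodule.mem_sup_left hρ))
  have haj := hadj j hj hji
  have hsum : π + ρ ∈ rg (a * j) := by
    rw [← haj.plane_eq hb]
    exact Submodule.add_mem _ (Submodule.mem_sup_right hπj) (Submodule.mem_sup_left hρ)
  have hne : π + ρ ≠ 0 := fun h => hu' (h ▸ zero_mem _)
  obtain ⟨l, hl, hul⟩ := haj.root_cover hb hsum hne
  refine ⟨l, hl.1, (haj.rg_le_plane hb hl).trans ?_, ?_, hul⟩
  · rw [← haj.plane_eq hb]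
    exact sup_le le_sup_right ((hq.rg_le_plane hb hj).trans le_sup_left)
  · rw [haj.rk_of_inC hb hl, ← haj.rk_eq hb, hq.rk_of_inC hb hj]

end

/-- Axes of rank `r` with root in `U`. -/
def Good (G : Subgroup (V ≃ₗ[ZMod p] V)) (U : Submodule (ZMod p) V) (r : ℕ)
    (l : V ≃ₗ[ZMod p] V) : Prop :=
  IsAxis G l ∧ rg l ≤ U ∧ rk l = r

section
variable (hb : Bin G)
include hb

theorem rg_le_fx_of_mem (h2 : p ≠ 2) (hm : IsAxis G m) (hn : IsAxis G n) (hu : u ∈ fx m)
    (hu' : u ∈ rg n) (hu0 : u ≠ 0) : rg n ≤ fx m := by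
  have h : u ∈ fx m ⊓ rg n := ⟨hu, hu'⟩
  have hne : fx n ≠ fx m := fun he => by
    rw [hn.eq_of_fx hb h2 hm he, hb.fx_inf_rg h2 hm.mem] at h
    exact hu0 h
  have hc : n * m = m * n := by
    by_contra hc
    rw [(Pair.mk hm hn (fun e => hc e.symm)).fx_inf_rg hb] at h
    exact hu0 h
  exact hn.rg_le_fx hb hm hc hne

theorem rg_le_fx_symm (h2 : p ≠ 2) (hm : IsAxis G m) (hn : IsAxis G n) (h : rg n ≤ fx m) :
    rg m ≤ fx n := by
  obtain ⟨u, hu, hu0⟩ := Submodule.exists_mem_ne_zero_of_ne_bot hn.rg_ne_bot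
  have h' : u ∈ fx m ⊓ rg n := ⟨h hu, hu⟩
  have hne : fx m ≠ fx n := fun he => by
    rw [← hm.eq_of_fx hb h2 hn he, hb.fx_inf_rg h2 hm.mem] at h'
    exact hu0 h'
  have hc : m * n = n * m := by
    by_contra hc
    rw [(Pair.mk hm hn hc).fx_inf_rg hb] at h'
    exact hu0 h'
  exact hm.rg_le_fx hb hn hc hne

/-- A covering of `U` of rank `3r` by roots gives a polarity without absolute points, which is
impossible. -/
theorem no_polarity (h2 : p ≠ 2) {U : Submodule (ZMod p) V} {r : ℕ} (hr : 0 < r)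
    (hU : finrank (ZMod p) U = 3 * r)
    (hcov : ∀ v ∈ U, v ≠ 0 → ∃ l, Good G U r l ∧ v ∈ rg l) : False := by
  classical
  let ι := {l : V ≃ₗ[ZMod p] V // Good G U r l}
  letI : Fintype ι := Fintype.ofFinite ι
  have hcount : ∀ L : Submodule (ZMod p) V, L ≤ U → 0 < finrank (ZMod p) L →
      (∀ l, Good G U r l → ∀ v ∈ L, v ∈ rg l → v ≠ 0 → rg l ≤ L) →
      ((Nat.card {l : ι // rg l.1 ≤ L} : ℕ) : ZMod p) = 1 := by
    intro L hL hL0 hin
    have h := count_cover (fun l : {l : ι // rg l.1 ≤ L} => rg l.1.1) L r (fun l => l.2)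
      (fun l => l.1.2.2.2)
      (fun i j hne => i.1.2.1.rg_inf_rg hb h2 j.1.2.1
        fun h => hne (Subtype.ext (Subtype.ext h)))
      (fun v hv hv0 => by
        obtain ⟨l, hl, hvl⟩ := hcov v (hL hv) hv0
        exact ⟨⟨⟨l, hl⟩, hin l hl v hv hvl hv0⟩, hvl⟩)
    have h' := congrArg (fun x : ℕ => (x : ZMod p)) h
    simp only [Nat.cast_mul, Nat.cast_sub (Nat.one_le_pow _ _ hp.out.pos), Nat.cast_pow,
      Nat.cast_one, ZMod.natCast_self, zero_pow hr.ne', zero_pow hL0.ne', zero_sub, mul_neg,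
      mul_one, neg_inj] at h'
    exact h'
  let M : Matrix ι ι (ZMod p) := Matrix.of fun l m => if rg m.1 ≤ fx l.1 then 1 else 0
  let J : Matrix ι ι (ZMod p) := Matrix.of fun _ _ => 1
  have hrank : ∀ l : ι, 2 * r ≤ finrank (ZMod p) ↥(fx l.1 ⊓ U) := by
    intro l
    have h1 := Submodule.finrank_sup_add_finrank_inf_eq (fx l.1) U
    have h3 := Submodule.finrank_le (fx l.1 ⊔ U)
    have h4 := finrank_fx_add_rg l.1
    have h5 := l.2.2.2
    unfold rk at h5
    omega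
  have hin : ∀ (l : ι) (m : V ≃ₗ[ZMod p] V), Good G U r m → ∀ v ∈ fx l.1, v ∈ rg m → v ≠ 0 →
      rg m ≤ fx l.1 :=
    fun l m hm v hv hvm hv0 => rg_le_fx_of_mem hb h2 l.2.1 hm.1 hv hvm hv0
  have hsum : ∀ (P : ι → Prop) [DecidablePred P], ∑ k : ι, (if P k then (1 : ZMod p) else 0) =
      ((Nat.card {k : ι // P k} : ℕ) : ZMod p) := by
    intro P _
    rw [Finset.sum_boole, Nat.card_eq_fintype_card, Fintype.card_subtype]
  have hMJ : M * J = J := by
    ext l m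
    rw [Matrix.mul_apply]
    simp only [M, J, Matrix.of_apply, mul_one]
    rw [hsum, show (fun k : ι => rg k.1 ≤ fx l.1) = (fun k : ι => rg k.1 ≤ fx l.1 ⊓ U) from
      funext fun k => propext ⟨fun h => le_inf h k.2.2.1, fun h => h.trans inf_le_left⟩]
    exact hcount _ inf_le_right (by have := hrank l; omega)
      fun k hk v hv hvk hv0 => le_inf (hin l k hk v hv.1 hvk hv0) hk.2.1
  have hMM : M * M = J := by
    ext l m
    rw [Matrix.mul_apply]
    simp only [M, J, Matrix.of_apply, ← ite_and, ite_mul, one_mul, zero_mul]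
    rw [hsum, show (fun k : ι => rg k.1 ≤ fx l.1 ∧ rg m.1 ≤ fx k.1) =
      (fun k : ι => rg k.1 ≤ (fx l.1 ⊓ U) ⊓ (fx m.1 ⊓ U)) from funext fun k => propext
        ⟨fun h => le_inf (le_inf h.1 k.2.2.1)
          (le_inf (rg_le_fx_symm hb h2 k.2.1 m.2.1 h.2) k.2.2.1),
         fun h => ⟨h.trans (inf_le_left.trans inf_le_left),
          rg_le_fx_symm hb h2 m.2.1 k.2.1 (h.trans (inf_le_right.trans inf_le_left))⟩⟩]
    refine hcount _ (inf_le_left.trans inf_le_right) ?_ fun k hk v hv hvk hv0 =>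
      le_inf (le_inf (hin l k hk v hv.1.1 hvk hv0) hk.2.1)
        (le_inf (hin m k hk v hv.2.1 hvk hv0) hk.2.1)
    have h1 := Submodule.finrank_sup_add_finrank_inf_eq (fx l.1 ⊓ U) (fx m.1 ⊓ U)
    have h3 := Submodule.finrank_mono (sup_le (inf_le_right : fx l.1 ⊓ U ≤ U)
      (inf_le_right : fx m.1 ⊓ U ≤ U))
    have h4 := hrank l
    have h5 := hrank m
    omega
  have hpow : ∀ k, M ^ (k + 2) = J := by
    intro k
    induction k with
    | zero => rw [pow_two, hMM]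
    | succ k ih => rw [pow_succ', ih, hMJ]
  have htrM : M.trace = 0 := by
    refine Finset.sum_eq_zero fun l _ => ?_
    refine if_neg fun h => l.2.1.rg_ne_bot (eq_bot_iff.2 fun v hv => ?_)
    exact (hb.fx_inf_rg h2 l.2.1.mem).le ⟨h hv, hv⟩
  have htrJ : J.trace = 1 := by
    have : J.trace = ((Nat.card ι : ℕ) : ZMod p) := by
      simp [J, Matrix.trace, Nat.card_eq_fintype_card]
    rw [this, ← Nat.card_congr (Equiv.subtypeUnivEquiv (p := fun l : ι => rg l.1 ≤ U)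
      fun l => l.2.2.1)]
    exact hcount U le_rfl (by omega) fun k hk _ _ _ _ => hk.2.1
  have h := ZMod.trace_pow_card M
  rw [show M ^ p = J by
    obtain ⟨k, hk⟩ := Nat.exists_eq_add_of_le hp.out.two_le
    rw [show M ^ p = M ^ (k + 2) from congrArg (M ^ ·) (by omega), hpow], htrJ, htrM,
    zero_pow hp.out.ne_zero] at h
  exact one_ne_zero h

theorem Pair.no_outside (hq : Pair G s t) (ha : IsAxis G a) (haC : ¬ InC G s t a)
    (hb' : InC G s t b) (hab : Pair G a b) : False := by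
  rcases eq_or_ne p 2 with h2 | h2
  · exact hq.no_outside_two hb h2 ha haC hb' hab
  obtain ⟨i, hi, hc, hne, hib, hadj⟩ := hq.exists_commuting hb ha haC hb' hab
  have hr : rk a = rk s := by rw [← hab.rk_eq hb, hq.rk_of_inC hb hb']
  have hr0 := hq.left.rk_pos
  have hPa := hq.plane_inf_rg hb h2 ha haC
  set U := rg (s * t) ⊔ rg a with hU
  have hUr : finrank (ZMod p) U = 3 * rk s := by
    rw [hU, finrank_sup_of_disjoint hPa, hq.finrank_plane hb]
    unfold rk at hr ⊢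
    omega
  have hagood : Good G U (rk s) a := ⟨ha, le_sup_right, hr⟩
  have hCgood : ∀ j, InC G s t j → Good G U (rk s) j := fun j hj =>
    ⟨hj.1, (hq.rg_le_plane hb hj).trans le_sup_left, hq.rk_of_inC hb hj⟩
  have hia : rg i ≤ fx a := hi.1.rg_le_fx hb ha hc.symm hne.symm
  have hai : rg a ≤ fx i := ha.rg_le_fx hb hi.1 hc hne
  set W0 := rg a ⊔ rg i with hW0
  have hW0d : rg a ⊓ rg i = ⊥ := eq_bot_iff.2 fun v hv =>
    hPa.le ⟨hq.rg_le_plane hb hi hv.2, hv.1⟩
  have hW0r : finrank (ZMod p) W0 = 2 * rk s := by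
    have h1 := hq.rk_of_inC hb hi
    rw [hW0, finrank_sup_of_disjoint hW0d]
    unfold rk at h1 hr ⊢
    omega
  have hout : ∀ v ∈ U, v ∉ W0 → ∃ l, Good G U (rk s) l ∧ v ∈ rg l := fun v hv hv' => by
    obtain ⟨l, hl, hlU, hlr, hvl⟩ := hq.cover_span hb ha hi hadj hv hv'
    exact ⟨l, ⟨hl, hlU, hlr⟩, hvl⟩
  have hrank : ∀ l, Good G U (rk s) l → finrank (ZMod p) ↥(fx l ⊓ U) = 2 * rk s := by
    intro l hl
    refine le_antisymm ?_ ?_
    · have hd : fx l ⊓ U ⊓ rg l = ⊥ :=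
        eq_bot_iff.2 fun v hv => (hb.fx_inf_rg h2 hl.1.mem).le ⟨hv.1.1, hv.2⟩
      have h1 := finrank_add_le_of_le hd inf_le_right hl.2.1
      have h3 := hl.2.2
      unfold rk at h3 hUr ⊢
      omega
    · have h1 := Submodule.finrank_sup_add_finrank_inf_eq (fx l) U
      have h3 := Submodule.finrank_le (fx l ⊔ U)
      have h4 := finrank_fx_add_rg l
      have h5 := hl.2.2
      unfold rk at h5 hUr ⊢
      omega
  obtain ⟨u₀, hu₀, hu₀0⟩ : ∃ v ∈ (fx a ⊓ U) ⊓ (fx i ⊓ U), v ≠ 0 := by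
    refine Submodule.exists_mem_ne_zero_of_ne_bot fun h => ?_
    have h1 := finrank_sup_of_disjoint h
    have h3 := Submodule.finrank_mono (sup_le (inf_le_right : fx a ⊓ U ≤ U)
      (inf_le_right : fx i ⊓ U ≤ U))
    have h4 := hrank a hagood
    have h5 := hrank i (hCgood i hi)
    omega
  have hu₀W0 : u₀ ∉ W0 := by
    intro h
    obtain ⟨x, hx, y, hy, rfl⟩ := Submodule.mem_sup.1 h
    have e1 := mem_fx.1 hu₀.1.1
    have e2 := mem_fx.1 hu₀.2.1
    rw [map_add, app_rg_neg (ha.sq hb) hx, mem_fx.1 (hia hy), add_left_inj] at e1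
    rw [map_add, mem_fx.1 (hai hx), app_rg_neg (hi.1.sq hb) hy, add_right_inj] at e2
    exact hu₀0 (by rw [neg_cancel' h2 e1, neg_cancel' h2 e2, add_zero])
  obtain ⟨l, hl, hu₀l⟩ := hout u₀ hu₀.1.2 hu₀W0
  have hla : rg l ≤ fx a := rg_le_fx_of_mem hb h2 ha hl.1 hu₀.1.1 hu₀l hu₀0
  have hli : rg l ≤ fx i := rg_le_fx_of_mem hb h2 hi.1 hl.1 hu₀.2.1 hu₀l hu₀0
  have hal : rg a ≤ fx l := rg_le_fx_symm hb h2 ha hl.1 hla
  have hil : rg i ≤ fx l := rg_le_fx_symm hb h2 hi.1 hl.1 hli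
  have hW0l : fx l ⊓ U = W0 := by
    refine (Submodule.eq_of_le_of_finrank_eq (sup_le (le_inf hal hagood.2.1)
      (le_inf hil (hCgood i hi).2.1)) ?_).symm
    rw [hrank l hl]; exact hW0r
  have hlad : rg a ⊓ rg l = ⊥ :=
    eq_bot_iff.2 fun v hv => (hb.fx_inf_rg h2 ha.mem).le ⟨hla hv.2, hv.1⟩
  obtain ⟨j, hj, hji, hlj⟩ : ∃ j, InC G s t j ∧ j ≠ i ∧ ¬ rg l ≤ rg a ⊔ rg j := by
    by_contra! hall
    have hcard : 1 < ({m | InC G s t m} \ {i}).ncard := by
      rw [Set.ncard_sdiff_singleton_of_mem (show i ∈ {m | InC G s t m} from hi),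
        ← Nat.card_coe_set_eq]
      have h1 : Nat.card {m | InC G s t m} = p ^ rk s + 1 := hq.natCard_inC hb
      have := one_lt_pow_rk hq.left
      omega
    obtain ⟨j₁, j₂, ⟨hj₁, hj₁i⟩, ⟨hj₂, hj₂i⟩, hne'⟩ := (Set.one_lt_ncard_iff).1 hcard
    have key : ∀ j, InC G s t j → j ≠ i → rg a ⊔ rg j = rg a ⊔ rg l := fun j hj hji => by
      refine (Submodule.eq_of_le_of_finrank_eq (sup_le le_sup_left (hall j hj hji)) ?_).symm
      rw [finrank_sup_of_disjoint hlad, finrank_sup_of_disjoint (eq_bot_iff.2 fun v hv =>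
        hPa.le ⟨hq.rg_le_plane hb hj hv.2, hv.1⟩ : rg a ⊓ rg j = ⊥)]
      have h1 := hl.2.2
      have h3 := hq.rk_of_inC hb hj
      unfold rk at h1 h3
      omega
    have hle : U ≤ rg a ⊔ rg l := by
      rw [hU, ← hq.sup_rg hb hj₁ hj₂ hne']
      refine sup_le (sup_le ?_ ?_) le_sup_left
      · exact le_sup_right.trans (key j₁ hj₁ hj₁i).le
      · exact le_sup_right.trans (key j₂ hj₂ hj₂i).le
    have h1 := Submodule.finrank_mono hle
    rw [hUr, finrank_sup_of_disjoint hlad] at h1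
    have h3 := hl.2.2
    unfold rk at h1 h3 hr hr0
    omega
  have haj := hadj j hj hji
  have hlC : ¬ InC G a j l := fun h => hlj (haj.plane_eq hb ▸ haj.rg_le_plane hb h)
  have hlj' : Pair G l j := by
    refine ⟨hl.1, hj.1, fun hc' => ?_⟩
    have hne' : fx j ≠ fx l := fun h => hlC ⟨hl.1, inf_le_right.trans h.le⟩
    have hjl : rg j ≤ fx l ⊓ U := le_inf (hj.1.rg_le_fx hb hl.1 hc'.symm hne') (hCgood j hj).2.1
    rw [hW0l] at hjl
    refine hj.1.rg_ne_bot (eq_bot_iff.2 fun v hv => ?_)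
    obtain ⟨x, hx, y, hy, rfl⟩ := Submodule.mem_sup.1 (hjl hv)
    have hxP : x ∈ rg (s * t) ⊓ rg a := by
      refine ⟨?_, hx⟩
      have := Submodule.sub_mem _ (hq.rg_le_plane hb hj hv) (hq.rg_le_plane hb hi hy)
      rwa [add_sub_cancel_right] at this
    rw [hPa, Submodule.mem_bot] at hxP
    rw [hxP, zero_add] at hv ⊢
    exact (hq.rg_inf hb hj hi hji).le ⟨hv, hy⟩
  obtain ⟨i', hi', -, -, -, hadj'⟩ := haj.exists_commuting hb hl.1 hlC haj.inC_right hlj'
  have hla' : l * a = a * l := by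
    by_contra h
    exact hl.1.rg_ne_bot (eq_bot_iff.2 fun v hv =>
      ((Pair.mk ha hl.1 (fun e => h e.symm)).fx_inf_rg hb).le ⟨hla hv, hv⟩)
  have hi'a : a = i' := by_contra fun h => (hadj' a haj.inC_left h).nc hla'
  subst hi'a
  have hU' : rg (a * j) ⊔ rg l = U := by
    refine Submodule.eq_of_le_of_finrank_le (sup_le ?_ hl.2.1) ?_
    · rw [← haj.plane_eq hb]; exact sup_le le_sup_right (hCgood j hj).2.1
    · rw [finrank_sup_of_disjoint (haj.plane_inf_rg hb h2 hl.1 hlC), haj.finrank_plane hb, hUr]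
      have h1 := hl.2.2
      unfold rk at h1 hr ⊢
      omega
  refine no_polarity hb h2 hr0 hUr fun v hv hv0 => ?_
  by_cases hvW0 : v ∈ W0
  swap
  · exact hout v hv hvW0
  by_cases hvl : v ∈ rg l ⊔ rg a
  · obtain ⟨x, hx, y, hy, rfl⟩ := Submodule.mem_sup.1 hvl
    have e : x + y ∈ fx l ⊓ U := hW0l ▸ hvW0
    have e1 := mem_fx.1 e.1
    rw [map_add, app_rg_neg (hl.1.sq hb) hx, mem_fx.1 (hal hy), add_left_inj] at e1
    rw [neg_cancel' h2 e1, zero_add]
    exact ⟨a, hagood, hy⟩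
  · obtain ⟨k, hk, hkU, hkr, hvk⟩ := haj.cover_span hb hl.1 haj.inC_left
      (fun m hm hma => hadj' m hm hma) (hU'.symm ▸ hv) hvl
    exact ⟨k, ⟨hk, hU' ▸ hkU, hkr.trans hr⟩, hvk⟩

end

end Cfsg.Agent.LocalEven61.Binary
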