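import Cfsg.Agent.LocalEven61.Binary.Basic

/-!
Two noncommuting axes of a binary linear group and the subgroup fixing their common fixed space.
-/

set_option autoImplicit false
set_option linter.unusedSectionVars false
set_option linter.style.haveILetI false

namespace Cfsg.Agent.LocalEven61.Binary

open Module

variable {p : ℕ} {V : Type*} [AddCommGroup V] [Module (ZMod p) V]

/-- The subgroup of `G` fixing `X` pointwise. -/
def fixG (G : Subgroup (V ≃ₗ[ZMod p] V)) (X : Submodule (ZMod p) V) :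
    Subgroup (V ≃ₗ[ZMod p] V) where
  carrier := {g | g ∈ G ∧ X ≤ fx g}
  one_mem' := ⟨one_mem _, le_fx_one⟩
  mul_mem' := fun ha hb => ⟨mul_mem ha.1 hb.1, le_fx_mul ha.2 hb.2⟩
  inv_mem' := fun ha => ⟨inv_mem ha.1, le_fx_inv ha.2⟩

variable {G : Subgroup (V ≃ₗ[ZMod p] V)} {g h s t m n a : V ≃ₗ[ZMod p] V} {u v : V}

theorem mem_fixG {X : Submodule (ZMod p) V} : g ∈ fixG G X ↔ g ∈ G ∧ X ≤ fx g := Iff.rfl

/-- The rank of the root of `s`. -/
noncomputable def rk (s : V ≃ₗ[ZMod p] V) : ℕ := finrank (ZMod p) (rg s)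

/-- The axes fixing `fx s ⊓ fx t`. -/
def InC (G : Subgroup (V ≃ₗ[ZMod p] V)) (s t m : V ≃ₗ[ZMod p] V) : Prop :=
  IsAxis G m ∧ fx s ⊓ fx t ≤ fx m

/-- Two noncommuting axes. -/
structure Pair (G : Subgroup (V ≃ₗ[ZMod p] V)) (s t : V ≃ₗ[ZMod p] V) : Prop where
  left : IsAxis G s
  right : IsAxis G t
  nc : s * t ≠ t * s

/-- The centraliser of `s * t` in the subgroup fixing `fx s ⊓ fx t`. -/
def grpA (G : Subgroup (V ≃ₗ[ZMod p] V)) (s t : V ≃ₗ[ZMod p] V) : Subgroup (V ≃ₗ[ZMod p] V) :=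
  fixG G (fx s ⊓ fx t) ⊓ Subgroup.centralizer {s * t}

theorem mem_grpA : g ∈ grpA G s t ↔ (g ∈ G ∧ fx s ⊓ fx t ≤ fx g) ∧ g * (s * t) = s * t * g := by
  rw [grpA, Subgroup.mem_inf, mem_fixG, Subgroup.mem_centralizer_singleton_iff]

theorem Pair.symm (hp : Pair G s t) : Pair G t s := ⟨hp.right, hp.left, fun h => hp.nc h.symm⟩

theorem Pair.ne (hp : Pair G s t) : s ≠ t := fun h => hp.nc (by rw [h])

theorem Pair.inC_left (hp : Pair G s t) : InC G s t s := ⟨hp.left, inf_le_left⟩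

theorem Pair.inC_right (hp : Pair G s t) : InC G s t t := ⟨hp.right, inf_le_right⟩

variable [hp : Fact p.Prime] [Finite V]

section
variable (hb : Bin G) (hq : Pair G s t)
include hb hq

theorem Pair.fx_ne : fx s ≠ fx t := fun h => hq.nc (hq.left.comm_of_fx hb hq.right h)

theorem Pair.disj : fx (s * t) ⊓ rg (s * t) = ⊥ := by
  rcases eq_or_ne p 2 with h2 | h2
  · exact fx_inf_rg_of_ss fun _ => ss_of_odd_order h2 (hq.left.odd_order hb h2 hq.right hq.nc)
  · exact hb.fx_inf_rg h2 (mul_mem hq.left.mem hq.right.mem)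

theorem Pair.inf_plane : fx s ⊓ fx t ⊓ rg (s * t) = ⊥ := by
  rw [← hq.left.fx_mul hb hq.right hq.nc]; exact hq.disj hb

theorem Pair.sup_plane : fx s ⊓ fx t ⊔ rg (s * t) = ⊤ := by
  rw [← hq.left.fx_mul hb hq.right hq.nc]; exact fx_sup_rg_of_inf (hq.disj hb)

theorem Pair.plane_comm : rg (t * s) = rg (s * t) := by
  have : t * s = (s * t)⁻¹ := by rw [mul_inv_rev, hq.left.inv hb, hq.right.inv hb]
  rw [this, rg_inv]

theorem Pair.left_app_plane (hv : v ∈ rg (s * t)) : s v ∈ rg (s * t) := by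
  obtain ⟨u, rfl⟩ := hv
  refine ⟨-(t u), ?_⟩
  have h1 : s (s (t u)) = t u := by rw [← mul_app s s, hq.left.sq hb, one_app]
  have h2 : t (t u) = u := by rw [← mul_app t t, hq.right.sq hb, one_app]
  simp only [dl_apply, mul_app, map_sub, map_neg, h1, h2]
  abel

/-- An element fixing `fx s ⊓ fx t` and stabilising the plane has its root in the plane. -/
theorem Pair.rg_le_of_app (hX : fx s ⊓ fx t ≤ fx g)
    (hP : ∀ v ∈ rg (s * t), g v ∈ rg (s * t)) : rg g ≤ rg (s * t) := by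
  rintro _ ⟨v, rfl⟩
  have hv : v ∈ fx s ⊓ fx t ⊔ rg (s * t) := by rw [hq.sup_plane hb]; trivial
  obtain ⟨x, hx, π, hπ, rfl⟩ := Submodule.mem_sup.1 hv
  rw [dl_apply, map_add, mem_fx.1 (hX hx), add_sub_add_left_eq_sub]
  exact Submodule.sub_mem _ (hP π hπ) hπ

theorem Pair.rg_left_le : rg s ≤ rg (s * t) :=
  hq.rg_le_of_app hb inf_le_left fun _ => hq.left_app_plane hb

theorem Pair.rg_right_le : rg t ≤ rg (s * t) := hq.plane_comm hb ▸ hq.symm.rg_left_le hb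

theorem Pair.rg_inf_rg : rg s ⊓ rg t = ⊥ := by
  rcases eq_or_ne p 2 with h2 | h2
  · refine eq_bot_iff.2 fun v hv => ?_
    rw [← hq.inf_plane hb]
    exact ⟨⟨hq.left.rg_le_fx_two hb h2 hv.1, hq.right.rg_le_fx_two hb h2 hv.2⟩, hq.rg_left_le hb hv.1⟩
  · exact hq.left.rg_inf_rg hb h2 hq.right hq.ne

theorem Pair.plane_eq : rg s ⊔ rg t = rg (s * t) := by
  refine le_antisymm (sup_le (hq.rg_left_le hb) (hq.rg_right_le hb)) ?_
  rintro _ ⟨v, rfl⟩
  have : dl (s * t) v = (s (t v) - t v) + (t v - v) := by rw [dl_apply, mul_app]; abel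
  rw [this]
  exact Submodule.add_mem_sup (sub_mem_rg s _) (sub_mem_rg t _)

/-- The fixed space of one axis meets the root of a noncommuting one trivially. -/
theorem Pair.fx_inf_rg : fx s ⊓ rg t = ⊥ := by
  rcases eq_or_ne p 2 with h2 | h2
  · refine eq_bot_iff.2 fun v hv => ?_
    rw [← hq.inf_plane hb]
    exact ⟨⟨hv.1, hq.right.rg_le_fx_two hb h2 hv.2⟩, hq.rg_right_le hb hv.2⟩
  · exact hq.left.fx_inf_rg_odd hb h2 hq.right hq.nc

theorem Pair.rk_le : rk t ≤ rk s := by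
  have h1 := finrank_add_le_of_le (hq.fx_inf_rg hb) (le_top (a := fx s)) le_top
  rw [finrank_top] at h1
  have h2 := finrank_fx_add_rg s
  unfold rk
  omega

theorem Pair.rk_eq : rk t = rk s := le_antisymm (hq.rk_le hb) (hq.symm.rk_le hb)

theorem Pair.finrank_plane : finrank (ZMod p) (rg (s * t)) = 2 * rk s := by
  rw [← hq.plane_eq hb, finrank_sup_of_disjoint (hq.rg_inf_rg hb), two_mul]
  conv_rhs => arg 2; rw [← hq.rk_eq hb]
  rfl

theorem Pair.finrank_X :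
    finrank (ZMod p) ↥(fx s ⊓ fx t) + 2 * rk s = finrank (ZMod p) V := by
  rw [← hq.finrank_plane hb, ← hq.left.fx_mul hb hq.right hq.nc, finrank_fx_add_rg]

theorem Pair.fx_two (h2 : p = 2) : fx s = fx s ⊓ fx t ⊔ rg s := by
  refine (Submodule.eq_of_le_of_finrank_le (sup_le inf_le_left (hq.left.rg_le_fx_two hb h2)) ?_).symm
  have hd : (fx s ⊓ fx t) ⊓ rg s = ⊥ :=
    eq_bot_iff.2 fun v hv => (hq.inf_plane hb).le ⟨hv.1, hq.rg_left_le hb hv.2⟩
  rw [finrank_sup_of_disjoint hd]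
  have h1 := finrank_fx_add_rg s
  have h2 := hq.finrank_X hb
  unfold rk at h2
  omega

theorem Pair.rho_sq : (s * t) * (s * t) ≠ 1 := fun h =>
  hq.nc (comm_of_sq (hq.left.sq hb) (hq.right.sq hb) h)

theorem Pair.neighbour (hm : InC G s t m) : Pair G m s ∨ Pair G m t := by
  by_contra! hno
  have hs : m * s = s * m := by_contra fun h => hno.1 ⟨hm.1, hq.left, h⟩
  have ht : m * t = t * m := by_contra fun h => hno.2 ⟨hm.1, hq.right, h⟩
  by_cases h1 : fx m = fx s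
  · have h := hq.right.rg_le_fx hb hm.1 ht.symm (fun h => hq.fx_ne hb (h1 ▸ h).symm)
    refine hq.right.rg_ne_bot (eq_bot_iff.2 fun v hv => ?_)
    rw [← hq.fx_inf_rg hb]; exact ⟨h1 ▸ h hv, hv⟩
  by_cases h2 : fx m = fx t
  · have h := hq.left.rg_le_fx hb hm.1 hs.symm (fun h => h1 h.symm)
    refine hq.left.rg_ne_bot (eq_bot_iff.2 fun v hv => ?_)
    rw [← hq.symm.fx_inf_rg hb]; exact ⟨h2 ▸ h hv, hv⟩
  refine hm.1.ne_one (fx_eq_top.1 (eq_top_iff.2 ?_))
  rw [← hq.sup_plane hb, ← hq.plane_eq hb]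
  exact sup_le hm.2 (sup_le (hq.left.rg_le_fx hb hm.1 hs.symm fun h => h1 h.symm)
    (hq.right.rg_le_fx hb hm.1 ht.symm fun h => h2 h.symm))

theorem Pair.exists_neighbour (hm : InC G s t m) : ∃ n, InC G s t n ∧ Pair G m n := by
  rcases hq.neighbour hb hm with h | h
  exacts [⟨s, hq.inC_left, h⟩, ⟨t, hq.inC_right, h⟩]

theorem Pair.rk_of_inC (hm : InC G s t m) : rk m = rk s := by
  rcases hq.neighbour hb hm with h | h
  · exact (h.rk_eq hb).symm
  · rw [← h.rk_eq hb, hq.rk_eq hb]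

theorem Pair.X_eq_of (hm : InC G s t m) (hn : InC G s t n) (hmn : Pair G m n) :
    fx m ⊓ fx n = fx s ⊓ fx t := by
  refine (Submodule.eq_of_le_of_finrank_le (le_inf hm.2 hn.2) ?_).symm
  have h1 := hmn.finrank_X hb
  have h2 := hq.finrank_X hb
  rw [hq.rk_of_inC hb hm] at h1
  omega

theorem Pair.fx_of_comm_two (h2 : p = 2) (hm : InC G s t m) (hn : InC G s t n)
    (hc : m * n = n * m) : fx m = fx n := by
  by_contra hne
  obtain ⟨k, hk, hmk⟩ := hq.exists_neighbour hb hm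
  refine hne (hm.1.fx_eq_of_le hn.1 ?_)
  rw [hmk.fx_two hb h2, hq.X_eq_of hb hm hk hmk]
  exact sup_le hn.2 (hm.1.rg_le_fx hb hn.1 hc hne)

theorem Pair.inf_eq (hm : InC G s t m) (hn : InC G s t n) (hne : fx m ≠ fx n) :
    fx m ⊓ fx n = fx s ⊓ fx t := by
  by_cases hc : m * n = n * m
  swap
  · exact hq.X_eq_of hb hm hn ⟨hm.1, hn.1, hc⟩
  have h2 : p ≠ 2 := fun h2 => hne (hq.fx_of_comm_two hb h2 hm hn hc)
  refine (Submodule.eq_of_le_of_finrank_le (le_inf hm.2 hn.2) ?_).symm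
  have hd : (fx m ⊓ fx n) ⊓ rg m = ⊥ :=
    eq_bot_iff.2 fun v hv => (hb.fx_inf_rg h2 hm.1.mem).le ⟨hv.1.1, hv.2⟩
  have h1 := finrank_add_le_of_le hd inf_le_right (hm.1.rg_le_fx hb hn.1 hc hne)
  have h3 := finrank_fx_add_rg n
  have h4 := hq.finrank_X hb
  have h5 := hq.rk_of_inC hb hm
  have h6 := hq.rk_of_inC hb hn
  unfold rk at h4 h5 h6
  omega

theorem Pair.le_fx_of_fix {i : V ≃ₗ[ZMod p] V} (hi : InC G s t i) (hu : u ∈ fx i)
    (huX : u ∉ fx s ⊓ fx t) (hg : g ∈ fixG G (fx s ⊓ fx t)) (hg1 : g ≠ 1) (hgu : g u = u) :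
    fx g ≤ fx i := by
  obtain ⟨j, hj, hle⟩ := exists_axis hg.1 hg1
  have hjC : InC G s t j := ⟨hj, hg.2.trans hle⟩
  by_contra hnot
  have hne : fx i ≠ fx j := fun h => hnot (h ▸ hle)
  exact huX (hq.inf_eq hb hi hjC hne ▸ ⟨hu, hle (mem_fx.2 hgu)⟩)

/-- The stabiliser of a vector of `fx i` off the common fixed space lies over `fx i`. -/
theorem Pair.stab {i : V ≃ₗ[ZMod p] V} (hi : InC G s t i) (hu : u ∈ fx i)
    (huX : u ∉ fx s ⊓ fx t) (hg : g ∈ fixG G (fx s ⊓ fx t)) (hgu : g u = u) : fx i ≤ fx g := by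
  obtain ⟨u', hu'⟩ := hi.1.exists_notMem
  have hsq : ∀ k ∈ fixG G (fx s ⊓ fx t), k u = u → k * k = 1 := by
    intro k hk hku
    refine hb.sq_of_regular (X := {x | x ∈ fx s ⊓ fx t ∨ x = u}) u' (fun l hl hX hlu' => ?_) hk.1
      (fun x hx => ?_)
    · by_contra hl1
      exact hu' (hq.le_fx_of_fix hb hi hu huX ⟨hl, fun x hx => mem_fx.2 (hX x (Or.inl hx))⟩ hl1
        (hX u (Or.inr rfl)) (mem_fx.2 hlu'))
    · rcases hx with hx | rfl
      exacts [mem_fx.1 (hk.2 hx), hku]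
  have hiu : i u = u := mem_fx.1 hu
  have hgi : g * i ∈ fixG G (fx s ⊓ fx t) := mul_mem hg ⟨hi.1.mem, hi.2⟩
  have hgiu : (g * i) u = u := by rw [mul_app, hiu, hgu]
  have hc : g * i = i * g := comm_of_sq (hsq g hg hgu) (hi.1.sq hb) (hsq _ hgi hgiu)
  rcases eq_or_ne p 2 with h2 | h2
  · obtain ⟨k, hk, hik⟩ := hq.exists_neighbour hb hi
    rw [hik.fx_two hb h2, hq.X_eq_of hb hi hk hik]
    exact sup_le hg.2 fun v hv =>
      mem_fx.2 (hb.fix_of_comm hi.1.mem hg.1 hc (hi.1.rg_le_fx_two hb h2 hv) hv)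
  by_cases h1 : g = 1
  · subst h1; exact le_fx_one
  by_cases h3 : g * i = 1
  · rw [eq_inv_of_mul_eq_one_left h3, fx_inv]
  exfalso
  refine hi.1.rg_ne_bot (eq_bot_iff.2 fun v hv => ?_)
  rw [Submodule.mem_bot]
  have hgv : g v ∈ rg i := comm_rg hc hv
  have hw : v + g v ∈ fx i ⊓ rg i := by
    refine ⟨hq.le_fx_of_fix hb hi hu huX hg h1 hgu (mem_fx.2 ?_), Submodule.add_mem _ hv hgv⟩
    rw [map_add, ← mul_app g g, hsq g hg hgu, one_app, add_comm]
  rw [hb.fx_inf_rg h2 hi.1.mem, Submodule.mem_bot] at hw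
  have hgv' : g v = -v := eq_neg_of_add_eq_zero_right hw
  have hfix : v ∈ fx i := by
    refine hq.le_fx_of_fix hb hi hu huX hgi h3 hgiu (mem_fx.2 ?_)
    rw [mul_app, app_rg_neg (hi.1.sq hb) hv, map_neg, hgv', neg_neg]
  have : v ∈ fx i ⊓ rg i := ⟨hfix, hv⟩
  rwa [hb.fx_inf_rg h2 hi.1.mem, Submodule.mem_bot] at this

theorem Pair.fx_le_of_map (h2 : p = 2) {i : V ≃ₗ[ZMod p] V} (hi : InC G s t i)
    (hn : n ∈ fixG G (fx s ⊓ fx t)) (hW : ∀ v ∈ fx i, n v ∈ fx i) : fx i ≤ fx n := by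
  classical
  let N : Subgroup (V ≃ₗ[ZMod p] V) :=
    { carrier := {k | k ∈ fixG G (fx s ⊓ fx t) ∧ ∀ v, k v ∈ fx i ↔ v ∈ fx i}
      one_mem' := ⟨one_mem _, fun v => Iff.rfl⟩
      mul_mem' := fun ha hb => ⟨mul_mem ha.1 hb.1, fun v => (ha.2 _).trans (hb.2 v)⟩
      inv_mem' := fun {x} hx => ⟨inv_mem hx.1, fun v => by
        rw [← hx.2 (x⁻¹ v), app_inv_app]⟩ }
  have hmapW : Submodule.map (n : V →ₗ[ZMod p] V) (fx i) = fx i :=
    Submodule.eq_of_le_of_finrank_eq (Submodule.map_le_iff_le_comap.2 hW)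
      (LinearEquiv.finrank_map_eq n (fx i))
  have hnN : n ∈ N := by
    refine ⟨hn, fun v => ⟨fun h => ?_, hW v⟩⟩
    rw [← hmapW] at h
    obtain ⟨w, hw, hwv⟩ := h
    rwa [← n.injective hwv]
  obtain ⟨u, hu, huX⟩ : ∃ u ∈ fx i, u ∉ fx s ⊓ fx t :=
    SetLike.not_le_iff_exists.1 fun h => hq.fx_ne hb
      ((hi.1.fx_eq_of_le hq.left (h.trans inf_le_left)).symm.trans
        (hi.1.fx_eq_of_le hq.right (h.trans inf_le_right)))
  have h4 : ∀ k ∈ N, k ^ 4 = 1 := by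
    intro k hk
    obtain ⟨l, hl, hlX, e1, e2⟩ := hb.swap (X := (fx s ⊓ fx t : Submodule _ V)) hk.1.1
      (fun x hx => mem_fx.1 (hk.1.2 hx)) u
    have hlF : l ∈ fixG G (fx s ⊓ fx t) := ⟨hl, fun x hx => mem_fx.2 (hlX x hx)⟩
    have he := hq.stab hb hi hu huX (mul_mem (inv_mem hk.1) hlF)
      (by rw [mul_app, e1, inv_app_app])
    have hll := hq.stab hb hi hu huX (mul_mem hlF hlF) (by rw [mul_app, e1, e2])
    have hk2 : fx i ≤ fx (k * k) := by
      intro v hv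
      have hkv : k v ∈ fx i := (hk.2 v).2 hv
      have hlv : ∀ w ∈ fx i, l w = k w := by
        intro w hw
        have := mem_fx.1 (he hw)
        rw [mul_app] at this
        conv_rhs => rw [← this]
        rw [app_inv_app]
      have := mem_fx.1 (hll hv)
      rw [mul_app, hlv v hv, hlv _ hkv, ← mul_app] at this
      exact mem_fx.2 this
    have := hi.1.sq_of_le hb (mul_mem hk.1.1 hk.1.1) hk2
    rw [← this, pow_succ, pow_succ, pow_succ, pow_one]; simp only [mul_assoc]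
  have hN : IsPGroup 2 N := fun k => ⟨2, Subtype.ext (by simpa using h4 k.1 k.2)⟩
  have hconj : ∀ k : N, ∀ e ∈ fixG G (fx i), (k : V ≃ₗ[ZMod p] V) * e * (k : V ≃ₗ[ZMod p] V)⁻¹ ∈
      fixG G (fx i) := by
    intro k e he
    refine ⟨mul_mem (mul_mem k.2.1.1 he.1) (inv_mem k.2.1.1), fun v hv => ?_⟩
    rw [mem_fx_conj]
    apply he.2
    rw [← k.2.2, app_inv_app]
    exact hv
  letI : MulAction N (fixG G (fx i)) :=
    { smul := fun k e => ⟨_, hconj k e.1 e.2⟩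
      one_smul := fun e => Subtype.ext (by
        show ((1 : N) : V ≃ₗ[ZMod p] V) * e.1 * ((1 : N) : V ≃ₗ[ZMod p] V)⁻¹ = e.1
        simp)
      mul_smul := fun k l e => Subtype.ext (by
        show ((k * l : N) : V ≃ₗ[ZMod p] V) * e.1 * ((k * l : N) : V ≃ₗ[ZMod p] V)⁻¹ = _
        show _ = (k : V ≃ₗ[ZMod p] V) * ((l : V ≃ₗ[ZMod p] V) * e.1 *
          (l : V ≃ₗ[ZMod p] V)⁻¹) * (k : V ≃ₗ[ZMod p] V)⁻¹
        simp [mul_assoc]) }
  have hdvd : 2 ∣ Nat.card (fixG G (fx i)) := by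
    have ho : orderOf (⟨i, hi.1.mem, le_rfl⟩ : fixG G (fx i)) = 2 := by
      rw [← Subgroup.orderOf_coe]
      exact orderOf_eq_prime (by rw [pow_two]; exact hi.1.sq hb) hi.1.ne_one
    exact ho ▸ orderOf_dvd_natCard _
  obtain ⟨e, hefix, hne⟩ := hN.exists_fixed_point_of_prime_dvd_card_of_fixed_point
    (fixG G (fx i)) hdvd (a := 1) (fun k => Subtype.ext (by
      show (k : V ≃ₗ[ZMod p] V) * 1 * (k : V ≃ₗ[ZMod p] V)⁻¹ = 1
      simp))
  have hcomm : n * e.1 = e.1 * n := by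
    have := congrArg Subtype.val (hefix ⟨n, hnN⟩)
    change n * e.1 * n⁻¹ = e.1 at this
    exact mul_inv_eq_iff_eq_mul.1 this
  obtain ⟨hea, hefx⟩ := hi.1.of_le e.2.1 (fun h => hne (Subtype.ext h.symm)) e.2.2
  have heC : InC G s t e.1 := ⟨hea, hi.2.trans hefx.ge⟩
  obtain ⟨k, hk, hek⟩ := hq.exists_neighbour hb heC
  rw [← hefx, hek.fx_two hb h2, hq.X_eq_of hb heC hk hek]
  exact sup_le hn.2 fun v hv =>
    mem_fx.2 (hb.fix_of_comm hea.mem hn.1 hcomm (hea.rg_le_fx_two hb h2 hv) hv)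

theorem Pair.eq_of_fx {i j : V ≃ₗ[ZMod p] V} (hi : InC G s t i) (hj : InC G s t j)
    (h : fx i = fx j) : i = j := by
  rcases eq_or_ne p 2 with h2 | h2
  swap
  · exact hi.1.eq_of_fx hb h2 hj.1 h
  obtain ⟨m, hm, him⟩ := hq.exists_neighbour hb hi
  have hjm : j * m ≠ m * j := fun hc =>
    him.fx_ne hb (h.trans (hq.fx_of_comm_two hb h2 hj hm hc))
  obtain ⟨x, hx, hxX, hx'⟩ := hi.1.exists_reflect hb h2 hm.1 him.nc
  obtain ⟨y, hy, hyX, hy'⟩ := hj.1.exists_reflect hb h2 hm.1 hjm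
  set w := y⁻¹ * x with hw
  have hwF : w ∈ fixG G (fx s ⊓ fx t) :=
    mul_mem (inv_mem ⟨hy.mem, (le_inf hj.2 hm.2).trans hyX⟩)
      ⟨hx.mem, (le_inf hi.2 hm.2).trans hxX⟩
  have hwi : w * i * w⁻¹ = j := by
    have : j = y⁻¹ * m * y := by rw [← hy']; group
    rw [this, ← hx', hw]; group
  have hle : fx i ≤ fx w := by
    refine hq.fx_le_of_map hb h2 hi hwF fun v hv => ?_
    conv_lhs => rw [h, ← hwi]
    rw [mem_fx_conj, inv_app_app]; exact hv
  have hc : w * i = i * w :=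
    comm_of_sq (hi.1.sq_of_le hb hwF.1 hle) (hi.1.sq hb)
      (hi.1.sq_of_le hb (mul_mem hwF.1 hi.1.mem) (le_fx_mul hle le_rfl))
  rw [← hwi, hc, mul_inv_cancel_right]

theorem Pair.eq_or_of_le (hm : InC G s t m) (hg : g ∈ G) (hle : fx m ≤ fx g) : g = 1 ∨ g = m := by
  by_cases h : g = 1
  · exact Or.inl h
  obtain ⟨hga, hgfx⟩ := hm.1.of_le hg h hle
  exact Or.inr (hq.eq_of_fx hb ⟨hga, hm.2.trans hgfx.ge⟩ hm hgfx)

theorem Pair.exists_notMem_X (hm : InC G s t m) : ∃ u ∈ fx m, u ∉ fx s ⊓ fx t :=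
  SetLike.not_le_iff_exists.1 fun h => hq.fx_ne hb
    ((hm.1.fx_eq_of_le hq.left (h.trans inf_le_left)).symm.trans
      (hm.1.fx_eq_of_le hq.right (h.trans inf_le_right)))

theorem Pair.key_one (hg : g ∈ fixG G (fx s ⊓ fx t)) (hm : InC G s t m) :
    g * g = 1 ∨ g * g = m ∨ m * g * m = g⁻¹ := by
  obtain ⟨u, hu, huX⟩ := hq.exists_notMem_X hb hm
  obtain ⟨k, hk, hkX, e1, e2⟩ := hb.swap (X := (fx s ⊓ fx t : Submodule _ V)) hg.1
    (fun x hx => mem_fx.1 (hg.2 hx)) u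
  have hkF : k ∈ fixG G (fx s ⊓ fx t) := ⟨hk, fun x hx => mem_fx.2 (hkX x hx)⟩
  have h1 := hq.eq_or_of_le hb hm (mul_mem (inv_mem hg.1) hk)
    (hq.stab hb hm hu huX (mul_mem (inv_mem hg) hkF) (by rw [mul_app, e1, inv_app_app]))
  have h2 := hq.eq_or_of_le hb hm (mul_mem hk hk)
    (hq.stab hb hm hu huX (mul_mem hkF hkF) (by rw [mul_app, e1, e2]))
  rw [inv_mul_eq_one, inv_mul_eq_iff_eq_mul] at h1
  rcases h1 with rfl | rfl
  · tauto
  rcases h2 with h | h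
  · refine Or.inr (Or.inr (eq_inv_of_mul_eq_one_right ?_))
    rw [← h]; simp only [mul_assoc]
  · refine Or.inr (Or.inl ?_)
    have h' : g * m * g = 1 := by
      have := congrArg (· * m⁻¹) h
      simpa [mul_assoc] using this
    have : m = g⁻¹ * g⁻¹ := by
      calc m = g⁻¹ * (g * m * g) * g⁻¹ := by group
        _ = g⁻¹ * g⁻¹ := by rw [h', mul_one]
    rw [← hm.1.inv hb, this, mul_inv_rev, inv_inv]

theorem Pair.key (hg : g ∈ fixG G (fx s ⊓ fx t)) :
    g * g = 1 ∨ ∀ m, InC G s t m → m * g * m = g⁻¹ := by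
  by_cases h1 : g * g = 1
  · exact Or.inl h1
  refine Or.inr fun m hm => ?_
  rcases hq.key_one hb hg hm with h | h | h
  · exact absurd h h1
  swap
  · exact h
  exfalso
  obtain ⟨n, hn, hmn⟩ := hq.exists_neighbour hb hm
  rcases hq.key_one hb hg hn with h' | h' | h'
  · exact h1 h'
  · exact hmn.ne (h.symm.trans h')
  · refine hmn.nc ?_
    have h3 : n * m * n = m := by
      calc n * m * n = (n * g * n) * (n * g * n) := by
            rw [← h]
            simp only [mul_assoc, ← mul_assoc n n, hn.1.sq hb, one_mul]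
        _ = (g * g)⁻¹ := by rw [h', mul_inv_rev]
        _ = m := by rw [h, hm.1.inv hb]
    calc m * n = n * m * n * n := by rw [h3]
      _ = n * m := by rw [mul_assoc, hn.1.sq hb, mul_one]

theorem Pair.inv_rho (hm : InC G s t m) : m * (s * t) * m = (s * t)⁻¹ :=
  ((hq.key hb (mul_mem ⟨hq.left.mem, inf_le_left⟩ ⟨hq.right.mem, inf_le_right⟩)).resolve_left
    (hq.rho_sq hb)) m hm

theorem Pair.notMem_grpA (hm : InC G s t m) : m ∉ grpA G s t := by
  intro h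
  refine hq.rho_sq hb ?_
  have := hq.inv_rho hb hm
  rw [(mem_grpA.1 h).2, mul_assoc (s * t), hm.1.sq hb, mul_one] at this
  conv_lhs => arg 2; rw [this]
  exact mul_inv_cancel _

theorem Pair.mem_or (hg : g ∈ fixG G (fx s ⊓ fx t)) : g ∈ grpA G s t ∨ InC G s t g := by
  by_cases h1 : g * g = 1
  swap
  · refine Or.inl (mem_grpA.2 ⟨hg, ?_⟩)
    have h := (hq.key hb hg).resolve_left h1
    have hs := h s hq.inC_left
    have ht := h t hq.inC_right
    have e : s * t * g * (t * s) = g := by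
      calc s * t * g * (t * s) = s * (t * g * t) * s := by simp only [mul_assoc]
        _ = (s * g * s)⁻¹ := by
          rw [ht, mul_inv_rev, mul_inv_rev, hq.left.inv hb]; simp only [mul_assoc]
        _ = g := by rw [hs, inv_inv]
    calc g * (s * t) = s * t * g * (t * s) * (s * t) := by rw [e]
      _ = s * t * g := by
        simp only [mul_assoc, ← mul_assoc s s, hq.left.sq hb, hq.right.sq hb,
          one_mul, mul_one]
  by_cases hg1 : g = 1
  · exact Or.inl (hg1 ▸ one_mem _)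
  by_cases hv : ∃ v ∈ fx g, v ∉ fx s ⊓ fx t
  · obtain ⟨v, hv, hvX⟩ := hv
    obtain ⟨j, hj, hle⟩ := exists_axis hg.1 hg1
    obtain ⟨ha, hfx⟩ := hj.of_le hg.1 hg1
      (hq.stab hb ⟨hj, hg.2.trans hle⟩ (hle hv) hvX hg (mem_fx.1 hv))
    exact Or.inr ⟨ha, hg.2⟩
  push Not at hv
  rcases eq_or_ne p 2 with h2 | h2
  · exfalso
    have hnle : ∀ k : V ≃ₗ[ZMod p] V, InC G s t k → ¬ fx k ≤ fx g := fun k hk h => by
      obtain ⟨u, hu, huX⟩ := hq.exists_notMem_X hb hk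
      exact huX (hv u (h hu))
    have hpres : ∀ k ∈ fixG G (fx s ⊓ fx t), k * s = s * k → k = 1 ∨ k = s := by
      intro k hk hc
      exact hq.eq_or_of_le hb hq.inC_left hk.1
        (hq.fx_le_of_map hb h2 hq.inC_left hk fun v hv => comm_fx hc hv)
    have hgs : g * s ≠ s * g := fun hc => by
      rcases hpres g hg hc with h | h
      · exact hg1 h
      · exact hnle s hq.inC_left (h ▸ le_rfl)
    rcases Nat.even_or_odd (orderOf (s * g)) with ⟨m, hm⟩ | hodd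
    · set w := (s * g) ^ m with hw
      have hpos : 0 < orderOf (s * g) := orderOf_pos _
      have hw1 : w ≠ 1 := fun h => by
        have := orderOf_le_of_pow_eq_one (by omega : 0 < m) h
        omega
      have hw2 : w * w = 1 := by rw [hw, ← pow_add, ← hm, pow_orderOf_eq_one]
      have hws : w * s = s * w := by
        rw [mul_pow_rev (hq.left.sq hb) h1, ← hw, inv_of_sq hw2]
      have hwF : w ∈ fixG G (fx s ⊓ fx t) :=
        pow_mem (mul_mem (show s ∈ fixG G (fx s ⊓ fx t) from ⟨hq.left.mem, inf_le_left⟩) hg) m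
      refine hgs ?_
      have hwg : w * (s * g) = (s * g) * w := by rw [hw, ← pow_succ, ← pow_succ']
      rw [(hpres w hwF hws).resolve_left hw1] at hwg
      calc g * s = s * (s * g) * s := by rw [← mul_assoc s, hq.left.sq hb, one_mul]
        _ = s * g := by rw [hwg, mul_assoc _ s s, hq.left.sq hb, mul_one]
    · obtain ⟨k, hk⟩ := dihedral_conj (hq.left.sq hb) h1 hodd
      have hga : IsAxis G g :=
        hk ▸ hq.left.conj (mul_mem hq.left.mem (pow_mem (mul_mem hq.left.mem hg.1) k))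
      exact hnle g ⟨hga, hg.2⟩ le_rfl
  · refine Or.inl (mem_grpA.2 ⟨hg, ?_⟩)
    have hneg : ∀ v, g v + v ∈ fx s ⊓ fx t := fun v => hv _ (mem_fx.2 (by
      rw [map_add, ← mul_app g g, h1, one_app, add_comm]))
    set r := s * t with hr
    have hrF : r ∈ fixG G (fx s ⊓ fx t) :=
      mul_mem ⟨hq.left.mem, inf_le_left⟩ ⟨hq.right.mem, inf_le_right⟩
    set q := g * r * g * r⁻¹ with hq'
    have hqF : q ∈ fixG G (fx s ⊓ fx t) := mul_mem (mul_mem (mul_mem hg hrF) hg) (inv_mem hrF)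
    have hqv : ∀ v, q v - v ∈ fx s ⊓ fx t := by
      intro v
      set w := r⁻¹ v with hw
      have e1 := hneg w
      have e2 := hneg (r (g w))
      have e3 : r (g w + w) = g w + w := mem_fx.1 (hrF.2 e1)
      have e4 : r w = v := app_inv_app r v
      have : q v - v = (g (r (g w)) + r (g w)) - (g w + w) := by
        rw [hq', mul_app, mul_app, mul_app, ← hw, ← e3, map_add, e4]
        abel
      rw [this]
      exact Submodule.sub_mem _ e2 e1
    have hq1 : q = 1 := LinearEquiv.ext fun v => hb.ss_odd h2 hqF.1 (mem_fx.1 (hqF.2 (hqv v)))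
    have e : g * r * g = r := mul_inv_eq_one.1 hq1
    calc g * r = g * (g * r * g) := by rw [e]
      _ = r * g := by rw [← mul_assoc g, ← mul_assoc g, h1, one_mul]

theorem Pair.mul_mem_grpA (hm : InC G s t m) (hn : InC G s t n) : m * n ∈ grpA G s t := by
  refine mem_grpA.2 ⟨mul_mem (show m ∈ fixG G (fx s ⊓ fx t) from ⟨hm.1.mem, hm.2⟩)
    (show n ∈ fixG G (fx s ⊓ fx t) from ⟨hn.1.mem, hn.2⟩), ?_⟩
  have e1 : ∀ k, InC G s t k → k * (s * t) = (s * t)⁻¹ * k := fun k hk => by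
    rw [← hq.inv_rho hb hk, mul_assoc _ k k, hk.1.sq hb, mul_one]
  have e2 : m * (s * t)⁻¹ = s * t * m := by
    rw [← hq.inv_rho hb hm, ← mul_assoc, ← mul_assoc, hm.1.sq hb, one_mul]
  rw [mul_assoc, e1 n hn, ← mul_assoc, e2, mul_assoc]

theorem Pair.mul_inC (ha : a ∈ grpA G s t) (hm : InC G s t m) : InC G s t (a * m) := by
  refine (hq.mem_or hb (mul_mem ha.1 ⟨hm.1.mem, hm.2⟩)).resolve_left fun h => hq.notMem_grpA hb hm ?_
  have := mul_mem (inv_mem ha) h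
  rwa [inv_mul_cancel_left] at this

theorem Pair.conj_inv (ha : a ∈ grpA G s t) (hm : InC G s t m) : m * a * m = a⁻¹ := by
  refine eq_inv_of_mul_eq_one_right ?_
  have := (hq.mul_inC hb ha hm).1.sq hb
  simpa only [mul_assoc] using this

theorem Pair.grpA_comm {b : V ≃ₗ[ZMod p] V} (ha : a ∈ grpA G s t) (hb' : b ∈ grpA G s t) :
    a * b = b * a := by
  have h := hq.conj_inv hb (mul_mem ha hb') hq.inC_left
  have e : s * (a * b) * s = (s * a * s) * (s * b * s) := by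
    simp only [mul_assoc, ← mul_assoc s s, hq.left.sq hb, one_mul]
  rw [e, hq.conj_inv hb ha hq.inC_left, hq.conj_inv hb hb' hq.inC_left, ← mul_inv_rev,
    inv_inj] at h
  exact h.symm

theorem Pair.cover (v : V) : ∃ m, InC G s t m ∧ v ∈ fx m := by
  by_cases hv : v ∈ fx s ⊓ fx t
  · exact ⟨s, hq.inC_left, hv.1⟩
  by_contra hno
  push Not at hno
  have hsq : ∀ k ∈ fixG G (fx s ⊓ fx t), k * k = 1 := fun k hk =>
    hb.sq_of_regular (X := (fx s ⊓ fx t : Submodule _ V)) v (fun l hl hlX hlv => by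
      by_contra hl1
      obtain ⟨j, hj, hle⟩ := exists_axis hl hl1
      exact hno j ⟨hj, fun x hx => hle (mem_fx.2 (hlX x hx))⟩ (hle (mem_fx.2 hlv)))
      hk.1 fun x hx => mem_fx.1 (hk.2 hx)
  exact hq.rho_sq hb (hsq _ (mul_mem ⟨hq.left.mem, inf_le_left⟩ ⟨hq.right.mem, inf_le_right⟩))

theorem Pair.semiregular (ha : a ∈ grpA G s t) (hv : v ∉ fx s ⊓ fx t) (hav : a v = v) : a = 1 := by
  obtain ⟨m, hm, hvm⟩ := hq.cover hb v
  exact (hq.eq_or_of_le hb hm ha.1.1 (hq.stab hb hm hvm hv ha.1 hav)).resolve_right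
    fun h => hq.notMem_grpA hb hm (h ▸ ha)

theorem Pair.app_plane (hg : g ∈ fixG G (fx s ⊓ fx t)) (hv : v ∈ rg (s * t)) :
    g v ∈ rg (s * t) := by
  rcases hq.mem_or hb hg with h | h
  · exact comm_rg (mem_grpA.1 h).2 hv
  · have hms := mem_grpA.1 (hq.mul_mem_grpA hb h hq.inC_left)
    have : g v = (g * s) (s v) := by rw [← mul_app, mul_assoc, hq.left.sq hb, mul_one]
    rw [this]
    exact comm_rg hms.2 (hq.left_app_plane hb hv)

theorem Pair.rg_le_plane (hm : InC G s t m) : rg m ≤ rg (s * t) :=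
  hq.rg_le_of_app hb hm.2 fun _ => hq.app_plane hb ⟨hm.1.mem, hm.2⟩

end

end Cfsg.Agent.LocalEven61.Binary
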